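import Groth.Agent.H16Derived.DerComp.Null.Dual
import Groth.Agent.H16Derived.DerComp.Push
import Mathlib.CategoryTheory.ObjectProperty.FullSubcategory

/-!
# Objects orthogonal to a reflective subcategory of a derived category
-/

set_option autoImplicit false
set_option linter.style.haveILetI false
set_option backward.isDefEq.respectTransparency false

universe w w' v v' u u' r v₁ u₁

open CategoryTheory CategoryTheory.Limits CategoryTheory.Pretriangulated

namespace Groth.Agent.H16Derived.DerCompLib.Null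

variable {A : Type u} [Category.{v} A] [Abelian A] [HasDerivedCategory.{w} A]

/-- No maps to the shifts of the objects with `P`. -/
def Orth (P : ObjectProperty (DerivedCategory A)) (X : DerivedCategory A) : Prop :=
  ∀ M, P M → ∀ n : ℤ, Subsingleton (X ⟶ M⟦n⟧)

theorem subsingleton_shift_left_iff (X M : DerivedCategory A) (k : ℤ) :
    Subsingleton (X ⟶ M⟦k⟧) ↔ Subsingleton (X⟦-k⟧ ⟶ M) :=
  (shAdd X M k).toEquiv.symm.subsingleton_congr

theorem subsingleton_shift_congr {X M : DerivedCategory A} {a b c : ℤ} (h : a + b = c)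
    (hs : Subsingleton (X ⟶ M⟦c⟧)) : Subsingleton (X ⟶ (M⟦a⟧)⟦b⟧) :=
  ((Iso.refl X).homCongr ((shiftFunctorAdd' (DerivedCategory A) a b c h).app M)).symm.subsingleton

theorem subsingleton_of_iso_left {X X' Y : DerivedCategory A} (e : X ≅ X') (h : Subsingleton (X ⟶ Y)) :
    Subsingleton (X' ⟶ Y) :=
  (e.homCongr (Iso.refl Y)).symm.subsingleton

theorem subsingleton_of_zero_shift {X M : DerivedCategory A} (h : Subsingleton (X ⟶ M⟦(0 : ℤ)⟧)) :
    Subsingleton (X ⟶ M) :=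
  ((Iso.refl X).homCongr ((shiftFunctorZero (DerivedCategory A) ℤ).app M)).symm.subsingleton

section Adj

variable {B : Type u'} [Category.{v'} B] [Abelian B] [HasDerivedCategory.{w'} B]
  {Φ : DerivedCategory A ⥤ DerivedCategory B} [Φ.CommShift ℤ] {R : DerivedCategory B ⥤ DerivedCategory A}

theorem subsingleton_of_adj_shift (adj : Φ ⊣ R) (X : DerivedCategory A) (Z : DerivedCategory B) (k : ℤ)
    (h : Subsingleton (Φ.obj X ⟶ Z⟦k⟧)) : Subsingleton (X ⟶ (R.obj Z)⟦k⟧) := by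
  rw [subsingleton_shift_left_iff] at h ⊢
  haveI : Subsingleton (Φ.obj (X⟦-k⟧) ⟶ Z) := subsingleton_of_iso_left ((Φ.commShiftIso (-k)).app X).symm h
  exact (adj.homEquiv _ _).symm.subsingleton

theorem subsingleton_shift_obj_of_adj (adj : Φ ⊣ R) (u : DerivedCategory A) (M : DerivedCategory B) (j : ℤ)
    (h : ∀ n : ℤ, Subsingleton (u ⟶ (R.obj M)⟦n⟧)) : Subsingleton ((Φ.obj u)⟦j⟧ ⟶ M) := by
  have h' := (subsingleton_shift_left_iff u (R.obj M) (-j)).1 (h (-j))
  rw [neg_neg] at h'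
  haveI : Subsingleton (Φ.obj (u⟦j⟧) ⟶ M) := (adj.homEquiv _ _).subsingleton
  exact subsingleton_of_iso_left ((Φ.commShiftIso j).app u) ‹Subsingleton (Φ.obj (u⟦j⟧) ⟶ M)›

theorem isZero_kX_of_orth {S : Type r} [CommRing S] [Linear S B] {P : ObjectProperty (DerivedCategory A)}
    {X : DerivedCategory A} (hX : Orth P X) (adj : Φ ⊣ R) (l : List S) (Y : CochainComplex B ℤ)
    (eY : DerivedCategory.Q.obj Y ≅ Φ.obj X)
    (hR : ∀ n : ℤ, P (R.obj ((DerivedCategory.Q.obj (kX S l Y))⟦n⟧))) :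
    IsZero (DerivedCategory.Q.obj (kX S l Y)) := by
  refine isZero_kX_of_subsingleton l Y fun n => ?_
  haveI := subsingleton_of_zero_shift (hX _ (hR n) 0)
  haveI : Subsingleton (Φ.obj X ⟶ (DerivedCategory.Q.obj (kX S l Y))⟦n⟧) := (adj.homEquiv X _).subsingleton
  exact subsingleton_of_iso_left eY.symm inferInstance

end Adj

variable {P : ObjectProperty (DerivedCategory A)} (hP : ∀ M, P M → ∀ k : ℤ, P (M⟦k⟧))

/-- Bijectivity of precomposition from the third object. -/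
theorem bijective_precomp_of_orth {X T E : DerivedCategory A} {g : X ⟶ T} {i : T ⟶ E}
    {d : E ⟶ X⟦(1 : ℤ)⟧} (hT : Triangle.mk g i d ∈ distTriang (DerivedCategory A))
    (hE : Orth P E) {Z : DerivedCategory A} (hZ : P Z) :
    Function.Bijective fun χ : T ⟶ Z => g ≫ χ := by
  constructor
  · intro x y hxy
    haveI : Subsingleton (E ⟶ Z) := subsingleton_of_zero_shift (hE Z hZ 0)
    obtain ⟨z, hz⟩ := Triangle.yoneda_exact₂ _ hT (x - y) (by
      show g ≫ (x - y) = 0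
      rw [Preadditive.comp_sub, sub_eq_zero]
      exact hxy)
    rw [← sub_eq_zero, hz, Subsingleton.elim (α := E ⟶ Z) z 0, comp_zero]
  · intro y
    haveI : Subsingleton (E⟦(-1 : ℤ)⟧ ⟶ Z) := (subsingleton_shift_left_iff E Z 1).1 (hE Z hZ 1)
    obtain ⟨z, hz⟩ := Triangle.yoneda_exact₂ _ (inv_rot_of_distTriang _ hT) y
      (Subsingleton.elim (α := E⟦(-1 : ℤ)⟧ ⟶ Z) _ _)
    exact ⟨z, hz.symm⟩

variable {c : DerivedCategory A ⥤ P.FullSubcategory} (adjc : c ⊣ P.ι)

include hP in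
/-- The third object of the reflection triangle. -/
theorem exists_orth_triangle (X : DerivedCategory A) :
    ∃ (E : DerivedCategory A) (i : (c.obj X).obj ⟶ E) (d : E ⟶ X⟦(1 : ℤ)⟧),
      Triangle.mk (adjc.unit.app X) i d ∈ distTriang (DerivedCategory A) ∧ Orth P E := by
  let η : X ⟶ (c.obj X).obj := adjc.unit.app X
  obtain ⟨E, i, d, hT⟩ := distinguished_cocone_triangle η
  refine ⟨E, i, d, hT, fun M hM n => subsingleton_of_forall_eq 0 fun x => ?_⟩
  have hbij : ∀ Z, P Z → Function.Bijective fun χ : (c.obj X).obj ⟶ Z => η ≫ χ := fun Z hZ => by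
    let Z' : P.FullSubcategory := ⟨Z, hZ⟩
    have : (fun χ : (c.obj X).obj ⟶ Z => η ≫ χ) =
        fun χ => adjc.homEquiv X Z' (ObjectProperty.homMk χ) := funext fun χ => by
      rw [Adjunction.homEquiv_unit]; rfl
    rw [this]
    exact (adjc.homEquiv X Z').bijective.comp
      ⟨fun a b h => congrArg InducedCategory.Hom.hom h, fun b => ⟨b.hom, rfl⟩⟩
  have h12 : η ≫ i = 0 := comp_distTriang_mor_zero₁₂ _ hT
  have h0 : i ≫ x = 0 := (hbij _ (hP M hM n)).1 (by
    show η ≫ i ≫ x = η ≫ 0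
    rw [comp_zero, reassoc_of% h12, zero_comp])
  obtain ⟨z, rfl⟩ := Triangle.yoneda_exact₃ _ hT x h0
  let e := (shiftFunctorAdd' (DerivedCategory A) (n - 1) 1 n (by omega)).app M
  obtain ⟨z₀, hz₀⟩ : ∃ z₀ : X ⟶ M⟦n - 1⟧, z₀⟦(1 : ℤ)⟧' = z ≫ e.hom :=
    (CategoryTheory.shiftFunctor (DerivedCategory A) (1 : ℤ)).map_surjective _
  obtain ⟨z₁, rfl⟩ := (hbij _ (hP M hM (n - 1))).2 z₀
  have h31 : d ≫ η⟦(1 : ℤ)⟧' = 0 := comp_distTriang_mor_zero₃₁ _ hT
  show d ≫ z = 0
  rw [← cancel_mono e.hom, zero_comp, Category.assoc]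
  show d ≫ z ≫ e.hom = 0
  rw [← hz₀, Functor.map_comp, reassoc_of% h31, zero_comp]

/-- A map into the subcategory with orthogonal cone computes the reflection. -/
theorem isIso_desc_of_orth {X T E : DerivedCategory A} (h : P T) {g : X ⟶ T} {i : T ⟶ E}
    {d : E ⟶ X⟦(1 : ℤ)⟧} (hT : Triangle.mk g i d ∈ distTriang (DerivedCategory A))
    (hE : Orth P E) : IsIso ((adjc.homEquiv X ⟨T, h⟩).symm g) := by
  let T' : P.FullSubcategory := ⟨T, h⟩
  let m := (adjc.homEquiv X T').symm g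
  have hm : ∀ (Z : P.FullSubcategory) (ψ : T' ⟶ Z), adjc.homEquiv X Z (m ≫ ψ) = g ≫ ψ.hom := fun Z ψ => by
    rw [Adjunction.homEquiv_naturality_right, Equiv.apply_symm_apply]
    rfl
  have hbij := fun Z : P.FullSubcategory => bijective_precomp_of_orth hT hE Z.property
  obtain ⟨ψ, hψ⟩ := (hbij (c.obj X)).2 (adjc.homEquiv X _ (𝟙 _))
  refine ⟨ObjectProperty.homMk ψ, (adjc.homEquiv X _).injective ((hm _ _).trans hψ), ?_⟩
  have hmψ : m ≫ (ObjectProperty.homMk ψ : T' ⟶ c.obj X) = 𝟙 _ :=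
    (adjc.homEquiv X _).injective ((hm _ _).trans hψ)
  refine InducedCategory.hom_ext ((hbij T').1 ?_)
  show g ≫ ((ObjectProperty.homMk ψ : T' ⟶ c.obj X) ≫ m).hom = g ≫ 𝟙 _
  rw [← hm T', reassoc_of% hmψ, Equiv.apply_symm_apply, Category.comp_id]

include hP adjc in
/-- An object whose reflection is zero is orthogonal. -/
theorem orth_of_isZero {X : DerivedCategory A} (hX : IsZero (c.obj X).obj) : Orth P X := by
  obtain ⟨E, i, d, hT, hE⟩ := exists_orth_triangle hP adjc X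
  intro M hM n
  refine subsingleton_of_forall_eq 0 fun x => ?_
  obtain ⟨χ, rfl⟩ := (bijective_precomp_of_orth hT hE (hP M hM n)).2 x
  show adjc.unit.app X ≫ χ = 0
  rw [hX.eq_of_src χ 0, comp_zero]

end Groth.Agent.H16Derived.DerCompLib.Null

namespace Groth.Agent.H16Derived.DerCompLib.Null

variable {A : Type u} [Category.{v} A] [Abelian A] [HasDerivedCategory.{w} A]
  {B : Type u'} [Category.{v'} B] [Abelian B] [HasDerivedCategory.{w'} B]
  {Φ : DerivedCategory A ⥤ DerivedCategory B} [Φ.CommShift ℤ] {R : DerivedCategory B ⥤ DerivedCategory A}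

theorem subsingleton_obj_of_adj_shift (adj : Φ ⊣ R) (X : DerivedCategory A) (Z : DerivedCategory B) (k : ℤ)
    (h : Subsingleton (X ⟶ (R.obj Z)⟦k⟧)) : Subsingleton (Φ.obj X ⟶ Z⟦k⟧) := by
  rw [subsingleton_shift_left_iff] at h ⊢
  haveI : Subsingleton (Φ.obj (X⟦-k⟧) ⟶ Z) := (adj.homEquiv _ _).subsingleton
  exact subsingleton_of_iso_left ((Φ.commShiftIso (-k)).app X) ‹Subsingleton (Φ.obj (X⟦-k⟧) ⟶ Z)›

theorem exists_right_triangle [Φ.IsTriangulated] (adj : Φ ⊣ R) {X Y Z : DerivedCategory B} {g : X ⟶ Y} {i : Y ⟶ Z}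
    {d : Z ⟶ X⟦(1 : ℤ)⟧} (hT : Triangle.mk g i d ∈ distTriang (DerivedCategory B)) :
    ∃ (i' : R.obj Y ⟶ R.obj Z) (d' : R.obj Z ⟶ (R.obj X)⟦(1 : ℤ)⟧),
      Triangle.mk (R.map g) i' d' ∈ distTriang (DerivedCategory A) := by
  letI := adj.rightAdjointCommShift ℤ
  haveI := adj.commShift_of_leftAdjoint ℤ
  haveI : R.IsTriangulated := adj.isTriangulated_rightAdjoint
  exact ⟨_, _, R.map_distinguished _ hT⟩

end Groth.Agent.H16Derived.DerCompLib.Null
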