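import Groth.Agent.H16Derived.DerComp.Null.Acyclic
import Groth.Agent.H16Derived.DerComp.Null.Tri
import Groth.Agent.H16Derived.DerComp.RHomComplete
import Groth.Agent.H16Derived.ExactRightAdj
import Mathlib.CategoryTheory.Adjunction.AdjointFunctorTheorems

/-!
# Objects with zero derived completion
-/

set_option autoImplicit false
set_option linter.style.haveILetI false
set_option backward.isDefEq.respectTransparency false

universe u v₁ u₁

open CategoryTheory CategoryTheory.Limits CategoryTheory.Pretriangulated Opposite

namespace Groth.Agent.H16Derived.DerCompLib.Null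

theorem pl_map_obj₂ {R : Type*} [CommRing R] {A : Type u₁} [Category.{v₁} A] [Abelian A] [HasDerivedCategory A]
    {B : Type u₁} [Category.{v₁} B] [Abelian B] [Linear R B] [HasDerivedCategory B] (F : A ⥤ B) [F.Additive]
    [PreservesFiniteLimits F] [PreservesFiniteColimits F] {X Y Z : DerivedCategory A} {f : X ⟶ Y} {g : Y ⟶ Z}
    {h : Z ⟶ X⟦(1 : ℤ)⟧} (hT : Triangle.mk f g h ∈ distTriang (DerivedCategory A)) {l : List R}
    {K : CochainComplex B ℤ} (h₁ : Pl l K (F.mapDerivedCategory.obj X))
    (h₃ : Pl l K (F.mapDerivedCategory.obj Z)) : Pl l K (F.mapDerivedCategory.obj Y) :=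
  pl_obj₂ _ (F.mapDerivedCategory.map_distinguished _ hT) h₁ h₃

open H15Site H15Site.ModTensor

attribute [local instance] HasDerivedCategory.standard
attribute [local instance 10000] SiteInst.hasSheafifySite SiteInst.hasWeakSheafifySite

variable {C : Type u} [SmallCategory C] {J : GrothendieckTopology C} (O : Sheaf J CommRingCat.{u}) (W : C)

theorem preservesColimits_rp : PreservesColimitsOfSize.{u, u} (ModOver.rp O W) :=
  ⟨fun {_} _ => ⟨fun {_} => ⟨fun {c} hc => ⟨PresheafOfModules.evaluationJointlyReflectsColimits _ _ fun Y =>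
    isColimitOfPreserves (PresheafOfModules.evaluation _ (op Y.unop.left)) hc⟩⟩⟩⟩

theorem preservesColimits_restr : PreservesColimitsOfSize.{u, u} (ModSite.restr O W) := by
  haveI := preservesColimits_rp O W
  haveI : PreservesColimitsOfSize.{u, u} (aSh (O.over W)) := (adj (O.over W)).leftAdjoint_preservesColimits
  haveI : PreservesColimitsOfSize.{u, u} (aSh O) := (adj O).leftAdjoint_preservesColimits
  haveI : PreservesColimitsOfSize.{u, u} (aSh O ⋙ ModSite.restr O W) :=
    preservesColimits_of_natIso (ModOver.restrASh O W).symm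
  haveI := ModOver.counit_isIso O
  refine ⟨fun {𝒥} _ => ⟨fun {K} => ?_⟩⟩
  let c := colimit.cocone (K ⋙ forg O)
  let ε : (K ⋙ forg O) ⋙ aSh O ≅ K := Functor.associator _ _ _ ≪≫
    Functor.isoWhiskerLeft K (@asIso _ _ _ _ (adj O).counit (ModOver.counit_isIso O)) ≪≫ K.rightUnitor
  haveI : PreservesColimit ((K ⋙ forg O) ⋙ aSh O) (ModSite.restr O W) :=
    preservesColimit_of_preserves_colimit_cocone (isColimitOfPreserves (aSh O) (colimit.isColimit (K ⋙ forg O)))
      (isColimitOfPreserves (aSh O ⋙ ModSite.restr O W) (colimit.isColimit (K ⋙ forg O)))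
  exact preservesColimit_of_iso_diagram (ModSite.restr O W) ε

theorem isLeftAdjoint_restr : (ModSite.restr O W).IsLeftAdjoint := by
  haveI := H10Coh.isGrothendieckAbelian_sheafOfModules (ModSite.ringSh O)
  haveI := preservesColimits_restr O W
  exact isLeftAdjoint_of_preservesColimits_of_isSeparating (isSeparator_separator (ModSite.Mod O)) _

theorem preservesFiniteLimits_restr' : PreservesFiniteLimits (ModSite.restr O W) :=
  H02CA.ModRestrExact.preservesFiniteLimits_restr O W

theorem preservesFiniteColimits_restr' : PreservesFiniteColimits (ModSite.restr O W) :=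
  H02CA.ModRestrExact.preservesFiniteColimits_restr O W

theorem additive_restr : (ModSite.restr O W).Additive :=
  haveI := preservesFiniteLimits_restr' O W
  Functor.additive_of_preserves_binary_products _

attribute [local instance] preservesFiniteLimits_restr' preservesFiniteColimits_restr' additive_restr

/-- `O_W` in degree `0`. -/
noncomputable abbrev uCx : CochainComplex (ModSite.Mod (O.over W)) ℤ :=
  (HomologicalComplex.single (ModSite.Mod (O.over W)) (ComplexShape.up ℤ) 0).obj (ModSite.unit (O.over W))

variable (I : DerComp.IdealSh O)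

/-- No maps to derived complete objects. -/
def LO (X : DerivedCategory (ModSite.Mod O)) : Prop :=
  Orth (DerComp.IsDerComp O I) X

/-- Killed by the Koszul complexes of local generators. -/
def NullC (X : DerivedCategory (ModSite.Mod O)) : Prop :=
  ∀ (W : C) (l : List (O.obj.obj (op W))), Gen l I →
    Pl (l.map (DerComp.GSec.ofSect O W)) (uCx O W) ((ModSite.restr O W).mapDerivedCategory.obj X)

theorem isDerComp_shift (M : DerivedCategory (ModSite.Mod O)) (h : DerComp.IsDerComp O I M) (k : ℤ) :
    DerComp.IsDerComp O I (M⟦k⟧) := fun U f hf n => by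
  haveI := h U f hf (k + n)
  exact subsingleton_shift_congr rfl (h U f hf (k + n))

variable {O I}

theorem nullC_of_LO {X : DerivedCategory (ModSite.Mod O)} (hX : LO O I X) : NullC O I X := by
  intro W l hl
  haveI := isLeftAdjoint_restr O W
  haveI := H10Coh.isGrothendieckAbelian_sheafOfModules (ModSite.ringSh (O.over W))
  let q := (ModSite.restr O W).rightAdjoint
  haveI : q.Additive := (Adjunction.ofIsLeftAdjoint (ModSite.restr O W)).right_adjoint_additive
  haveI := ExactRightAdj.hasPointwise (B := ModSite.Mod (O.over W)) (A := ModSite.Mod O) (F := q)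
  let adjR := ExactRightAdj.adjD (Adjunction.ofIsLeftAdjoint (ModSite.restr O W))
  let Φ := (ModSite.restr O W).mapDerivedCategory
  let Y := DerivedCategory.Q.objPreimage (Φ.obj X)
  let eY : DerivedCategory.Q.obj Y ≅ Φ.obj X := DerivedCategory.Q.objObjPreimageIso _
  let ls := l.reverse.map (DerComp.GSec.ofSect O W)
  refine pl_iso eY (pl_of_isZero_right _ _ _ ?_)
  rw [← List.map_reverse]
  refine isZero_kX_of_orth (P := DerComp.IsDerComp O I) hX adjR ls Y eY fun n => ?_
  intro U f hf k
  refine subsingleton_of_adj_shift adjR _ _ k (subsingleton_shift_congr rfl ?_)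
  refine subsingleton_of_iso_left (((ModSite.restr O W).mapDerivedCategorySingleFunctor 0).app
    ((ModSite.extZero O U).obj (DerComp.awayOver O U f)) ≪≫
      (DerivedCategory.singleFunctorIsoCompQ (ModSite.Mod (O.over W)) 0).app
        ((ModSite.restr O W).obj ((ModSite.extZero O U).obj (DerComp.awayOver O U f)))).symm ?_
  refine subsingleton_to_kX_of_isZero ls _ _ ?_ _
  rw [← List.map_reverse, List.reverse_reverse]
  exact isZero_kU_test hl hf

/-- Derived completeness and nullity together force zero. -/
theorem isZero_of_nullC (hI : I.IsFiniteType) {M : DerivedCategory (ModSite.Mod O)}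
    (hM : DerComp.IsDerComp O I M) (hN : NullC O I M) : IsZero M := by
  haveI := H10Coh.isGrothendieckAbelian_sheafOfModules (ModSite.ringSh O)
  refine isZero_of_separating (ι := {V : C // ∃ l : List (O.obj.obj (op V)), Gen l I})
    (G := fun V => ModSite.freeOn O V.1) (fun {F F'} φ hφ => ?_) M fun V j => ?_
  · refine SheafOfModules.hom_ext (PresheafOfModules.hom_ext fun U => ModuleCat.hom_ext (LinearMap.ext fun x => ?_))
    obtain ⟨S, hS, hgen⟩ := exists_gen_sieve hI U.unop
    refine separated_forg F' (X := U) S hS _ _ fun Z k hk => ?_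
    refine (rs_app ((forg O).map φ) k.op x).symm.trans ?_
    obtain ⟨h, hh⟩ := (FreeOn.homEquiv O Z F).surjective (rs ((forg O).obj F) k.op x)
    have h0 := FreeOn.homEquiv_comp O Z φ h
    rw [hφ ⟨Z, hgen k hk⟩ h, map_zero] at h0
    refine Eq.trans ?_ (map_zero (((forg O).obj F').presheaf.map k.op).hom).symm
    rw [← hh]
    exact h0.symm
  · obtain ⟨V, l, hl⟩ := V
    haveI := ModOver.additive_extZero O V
    haveI := ModOver.preservesFiniteLimits_extZero O V
    haveI := ModOver.preservesFiniteColimits_extZero O V
    let A := ModSite.Mod (O.over V)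
    let N := (ModSite.restr O V).mapDerivedCategory.obj M
    let adjE := ExactAdj.mapDerivedCategoryAdj (ModSite.extZeroAdj O V)
    have hu : ∀ n : ℤ, Subsingleton ((S0 (A := A)).obj (ModSite.unit (O.over V)) ⟶ N⟦n⟧) := fun n => by
      refine subsingleton_of_iso_left
        ((DerivedCategory.singleFunctorIsoCompQ A 0).app (ModSite.unit (O.over V))).symm ?_
      refine hom_zero_of_pl (l.map (DerComp.GSec.ofSect O V)) (uCx O V) _ (hN V l hl) (fun g hg Y m => ?_) n
      obtain ⟨f, hf, rfl⟩ := List.mem_map.1 hg
      exact comp_restr_of_compAt O f M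
        (fun V' g => (isDerComp_iff O I M).1 hM V' _ (I.map_mem g (hl.1 f hf))) Y m
    exact subsingleton_of_iso_left ((CategoryTheory.shiftFunctor (DerivedCategory (ModSite.Mod O)) j).mapIso
      (((ModSite.extZero O V).mapDerivedCategorySingleFunctor 0).app (ModSite.unit (O.over V))))
      (subsingleton_shift_obj_of_adj adjE ((S0 (A := A)).obj (ModSite.unit (O.over V))) M j hu)

/-- The third object of the completion triangle has no maps to complete objects. -/
theorem exists_LO_triangle [DerComp.HasDerCompletion O I] (X : DerivedCategory (ModSite.Mod O)) :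
    ∃ (E : DerivedCategory (ModSite.Mod O)) (i : ((DerComp.derCompletion O I).obj X).obj ⟶ E)
      (d : E ⟶ X⟦(1 : ℤ)⟧), Triangle.mk (DerComp.toDerCompletion I X) i d ∈
        distTriang (DerivedCategory (ModSite.Mod O)) ∧ LO O I E :=
  exists_orth_triangle (isDerComp_shift O I) (DerComp.derCompletionAdj O I) X

/-- Nullity is having zero completion. -/
theorem LO_of_nullC (hI : I.IsFiniteType) {X : DerivedCategory (ModSite.Mod O)} (hX : NullC O I X) :
    LO O I X := by
  haveI : DerComp.HasDerCompletion O I := hasDerCompletion O I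
  obtain ⟨E, i, d, hT, hE⟩ := exists_LO_triangle (I := I) X
  exact orth_of_isZero (isDerComp_shift O I) (DerComp.derCompletionAdj O I)
    (isZero_of_nullC hI ((DerComp.derCompletion O I).obj X).property fun W l hl =>
      pl_map_obj₂ (ModSite.restr O W) hT (hX W l hl)
        (nullC_of_LO hE W l hl))

/-- A map to a complete object with null cone computes the completion. -/
theorem isIso_desc_of_LO [DerComp.HasDerCompletion O I] {A T E : DerivedCategory (ModSite.Mod O)}
    (h : DerComp.IsDerComp O I T) {g : A ⟶ T} {i : T ⟶ E}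
    {d : E ⟶ A⟦(1 : ℤ)⟧} (hT : Triangle.mk g i d ∈ distTriang (DerivedCategory (ModSite.Mod O)))
    (hE : LO O I E) : IsIso (((DerComp.derCompletionAdj O I).homEquiv A ⟨T, h⟩).symm g) :=
  isIso_desc_of_orth (DerComp.derCompletionAdj O I) h hT hE

end Groth.Agent.H16Derived.DerCompLib.Null
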