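import Groth.Prelude.Def_DerComp
import Groth.Agent.H15Site.CoverFlat
import Mathlib.RingTheory.Ideal.Operations

/-!
# Sections locally in the ideal of a finite list of sections
-/

set_option autoImplicit false
set_option linter.style.haveILetI false
set_option backward.isDefEq.respectTransparency false

universe u

open CategoryTheory CategoryTheory.Limits Opposite

namespace Groth.Agent.H16Derived.DerCompLib.Null

variable {C : Type u} [SmallCategory C] {J : GrothendieckTopology C} (O : Sheaf J CommRingCat.{u})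

/-- Restriction of a section. -/
noncomputable abbrev res {V W : C} (b : V ⟶ W) : O.obj.obj (op W) →+* O.obj.obj (op V) := (O.obj.map b.op).hom

theorem res_res {U V W : C} (a : U ⟶ V) (b : V ⟶ W) (f : O.obj.obj (op W)) :
    res O a (res O b f) = res O (a ≫ b) f := by
  show _ = (O.obj.map (a ≫ b).op).hom f
  rw [op_comp, Functor.map_comp]
  rfl

theorem res_id {W : C} (f : O.obj.obj (op W)) : res O (𝟙 W) f = f := by
  show (O.obj.map (𝟙 W).op).hom f = f
  rw [op_id, CategoryTheory.Functor.map_id]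
  rfl

variable {O} {W : C} (l : List (O.obj.obj (op W)))

/-- The ideal of the restrictions of a list of sections. -/
noncomputable def spanAt {Z : C} (b : Z ⟶ W) : Ideal (O.obj.obj (op Z)) :=
  Ideal.span (res O b '' {x | x ∈ l})

theorem mem_spanAt {Z : C} (b : Z ⟶ W) {f : O.obj.obj (op W)} (hf : f ∈ l) : res O b f ∈ spanAt l b :=
  Ideal.subset_span ⟨f, hf, rfl⟩

theorem res_mem_spanAt {Z Z' : C} (k : Z' ⟶ Z) (b : Z ⟶ W) {a : O.obj.obj (op Z)} (ha : a ∈ spanAt l b) :
    res O k a ∈ spanAt l (k ≫ b) := by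
  have h := Ideal.mem_map_of_mem (res O k) ha
  rw [spanAt, Ideal.map_span, Set.image_image] at h
  simpa only [spanAt, res_res] using h

/-- Locally in the ideal of the list. -/
def LocSpan {V : C} (v : V ⟶ W) (a : O.obj.obj (op V)) : Prop :=
  ∃ S ∈ J V, ∀ ⦃Z : C⦄ (k : Z ⟶ V), S k → res O k a ∈ spanAt l (k ≫ v)

variable {l}

theorem LocSpan.of_mem {V : C} {v : V ⟶ W} {a : O.obj.obj (op V)} (h : a ∈ spanAt l v) : LocSpan l v a :=
  ⟨⊤, J.top_mem V, fun _ k _ => res_mem_spanAt l k v h⟩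

theorem LocSpan.res {V V' : C} {v : V ⟶ W} {a : O.obj.obj (op V)} (h : LocSpan l v a) (k : V' ⟶ V) :
    LocSpan l (k ≫ v) (res O k a) := by
  obtain ⟨S, hS, hS'⟩ := h
  refine ⟨S.pullback k, J.pullback_stable k hS, fun Z m hm => ?_⟩
  rw [res_res, ← Category.assoc]
  exact hS' _ hm

theorem LocSpan.add {V : C} {v : V ⟶ W} {a a' : O.obj.obj (op V)} (h : LocSpan l v a) (h' : LocSpan l v a') :
    LocSpan l v (a + a') := by
  obtain ⟨S, hS, hS'⟩ := h
  obtain ⟨T, hT, hT'⟩ := h'
  exact ⟨S ⊓ T, J.intersection_covering hS hT, fun Z k hk => by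
    rw [map_add]; exact Ideal.add_mem _ (hS' k hk.1) (hT' k hk.2)⟩

theorem LocSpan.mul {V : C} {v : V ⟶ W} (r : O.obj.obj (op V)) {a : O.obj.obj (op V)} (h : LocSpan l v a) :
    LocSpan l v (r * a) := by
  obtain ⟨S, hS, hS'⟩ := h
  exact ⟨S, hS, fun Z k hk => by rw [map_mul]; exact Ideal.mul_mem_left _ _ (hS' k hk)⟩

theorem LocSpan.of_locally {V : C} {v : V ⟶ W} {a : O.obj.obj (op V)} (S : Sieve V) (hS : S ∈ J V)
    (h : ∀ ⦃Z : C⦄ (k : Z ⟶ V), S k → LocSpan l (k ≫ v) (Null.res O k a)) : LocSpan l v a := by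
  choose T hT hT' using h
  refine ⟨Sieve.bind S.arrows T, J.bind_covering hS hT, fun Z k hk => ?_⟩
  obtain ⟨Y, m, n, hn, hm, rfl⟩ := hk
  rw [← res_res, Category.assoc]
  exact hT' n hn m hm

variable (l)

/-- The sheaf of ideals on `C/W` of sections locally in the ideal of the list. -/
noncomputable def spanSh : DerComp.IdealSh (O.over W) where
  ideal V :=
    { carrier := {a | LocSpan l V.hom (show O.obj.obj (op V.left) from a)}
      add_mem' := fun h h' => h.add h'
      zero_mem' := LocSpan.of_mem (zero_mem _)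
      smul_mem' := fun r _ h => LocSpan.mul (show O.obj.obj (op V.left) from r) h }
  map_mem {V V'} g {a} ha := by
    have h := LocSpan.res ha g.left
    rwa [Over.w g] at h
  glue {V a} S hS h := by
    refine LocSpan.of_locally (Sieve.overEquiv V S) ((GrothendieckTopology.mem_over_iff _ _).1 hS) fun Z k hk => ?_
    exact h (Over.homMk k : Over.mk (k ≫ V.hom) ⟶ V) ((Sieve.overEquiv_iff S k).1 hk)

/-- The sheaf of ideals on `C` of sections locally in the ideal of the list along all maps to `W`. -/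
noncomputable def coSpan : DerComp.IdealSh O where
  ideal U :=
    { carrier := {a | ∀ ⦃Z : C⦄ (k : Z ⟶ U) (b : Z ⟶ W), LocSpan l b (Null.res O k a)}
      add_mem' := fun h h' Z k b => by rw [map_add]; exact (h k b).add (h' k b)
      zero_mem' := fun Z k b => by rw [map_zero]; exact LocSpan.of_mem (zero_mem _)
      smul_mem' := fun r _ h Z k b => by rw [smul_eq_mul, map_mul]; exact (h k b).mul _ }
  map_mem {U U'} g a ha Z k b := by
    show LocSpan l b (Null.res O k (Null.res O g a))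
    rw [res_res]
    exact ha _ b
  glue {U a} S hS h Z k b := by
    refine LocSpan.of_locally (S.pullback k) (J.pullback_stable k hS) fun Z' m hm => ?_
    have := h (m ≫ k) hm (𝟙 Z') (m ≫ b)
    rw [res_id] at this
    rw [res_res]
    exact this

/-- The list generates the ideal on `C/W`. -/
def Gen (I : DerComp.IdealSh O) : Prop :=
  (∀ f ∈ l, f ∈ I.ideal W) ∧ ∀ ⦃V : C⦄ (v : V ⟶ W) (a : O.obj.obj (op V)), a ∈ I.ideal V → LocSpan l v a

variable {l} {I : DerComp.IdealSh O}

theorem gen_of_subset (l' : List (O.obj.obj (op W))) (h : ∀ f, f ∈ l ↔ f ∈ l') (hl : Gen l I) : Gen l' I := by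
  have hs : {x | x ∈ l} = {x | x ∈ l'} := Set.ext h
  refine ⟨fun f hf => hl.1 f ((h f).2 hf), fun V v a ha => ?_⟩
  obtain ⟨S, hS, hS'⟩ := hl.2 v a ha
  exact ⟨S, hS, fun Z k hk => by simpa only [spanAt, hs] using hS' k hk⟩

theorem Gen.reverse (hl : Gen l I) : Gen l.reverse I :=
  gen_of_subset l.reverse (fun _ => List.mem_reverse.symm) hl

theorem Gen.restr (hl : Gen l I) {V : C} (v : V ⟶ W) : Gen (l.map (Null.res O v)) I := by
  refine ⟨fun f hf => ?_, fun V' v' a ha => ?_⟩
  · obtain ⟨g, hg, rfl⟩ := List.mem_map.1 hf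
    exact I.map_mem v (hl.1 g hg)
  · obtain ⟨S, hS, hS'⟩ := hl.2 (v' ≫ v) a ha
    refine ⟨S, hS, fun Z k hk => ?_⟩
    have := hS' k hk
    rw [spanAt] at this ⊢
    refine Ideal.span_mono ?_ this
    rintro _ ⟨g, hg, rfl⟩
    exact ⟨_, List.mem_map.2 ⟨g, hg, rfl⟩, by rw [res_res, Category.assoc]⟩

theorem gen_of_isGenBy {r : ℕ} (a : Fin r → O.obj.obj (op W))
    (h : (I.over W).IsGenBy fun i => DerComp.GSec.ofSect O W (a i)) : Gen (List.ofFn a) I := by
  have hle : I.over W ≤ spanSh (List.ofFn a) := h.2 _ fun i V =>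
    LocSpan.of_mem (mem_spanAt _ V.hom (List.mem_ofFn.2 ⟨i, rfl⟩))
  refine ⟨fun f hf => ?_, fun V v b hb => hle (Over.mk v) hb⟩
  obtain ⟨i, rfl⟩ := List.mem_ofFn.1 hf
  have := h.1 i (Over.mk (𝟙 W))
  have h' : Null.res O (𝟙 W) (a i) ∈ I.ideal W := this
  rwa [res_id] at h'

theorem exists_gen_sieve (hI : I.IsFiniteType) (U : C) :
    ∃ S ∈ J U, ∀ ⦃V : C⦄ (g : V ⟶ U), S g → ∃ l : List (O.obj.obj (op V)), Gen l I := by
  obtain ⟨S, hS, h⟩ := hI U
  refine ⟨S, hS, fun V g hg => ?_⟩
  obtain ⟨r, a, ha⟩ := h g hg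
  exact ⟨_, gen_of_isGenBy a ha⟩

omit J in
/-- Pigeonhole for powers in a finitely generated ideal. -/
theorem pow_mem_span_pow {A : Type*} [CommRing A] (N : ℕ) :
    ∀ (s : List A) (a : A), a ∈ Ideal.span {x | x ∈ s} →
      a ^ (s.length * N + 1) ∈ Ideal.span ((fun x => x ^ N) '' {x | x ∈ s})
  | [], a, ha => by
    have : a = 0 := by simpa using ha
    simp [this]
  | g :: s, a, ha => by
    have he : {x | x ∈ g :: s} = insert g {x | x ∈ s} := by ext x; simp
    rw [he] at ha ⊢
    obtain ⟨c, z, hz, rfl⟩ := Ideal.mem_span_insert.1 ha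
    have h₁ : (c * g) ^ N ∈ Ideal.span ((fun x => x ^ N) '' insert g {x | x ∈ s}) := by
      rw [mul_pow]
      exact Ideal.mul_mem_left _ _ (Ideal.subset_span ⟨g, Set.mem_insert _ _, rfl⟩)
    have h₂ := Ideal.span_mono (Set.image_mono (Set.subset_insert g _)) (pow_mem_span_pow N s z hz)
    refine Ideal.add_pow_mem_of_pow_mem_of_le _ h₁ h₂ ?_
    simp only [List.length_cons, add_mul, one_mul]
    omega

theorem pow_mem_spanAt (N : ℕ) {Z : C} (b : Z ⟶ W) {a : O.obj.obj (op Z)} (ha : a ∈ spanAt l b) :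
    a ^ (l.length * N + 1) ∈ Ideal.span ((fun g => Null.res O b g ^ N) '' {x | x ∈ l}) := by
  have he : Null.res O b '' {x | x ∈ l} = {x | x ∈ l.map (Null.res O b)} := by
    ext x
    simp
  rw [spanAt, he] at ha
  have := pow_mem_span_pow N _ a ha
  rwa [List.length_map, ← he, Set.image_image] at this

section Push

variable {D : Type u} [SmallCategory D] {K : GrothendieckTopology D} {O_D : Sheaf K CommRingCat.{u}}
  (f : ModSite.RMor O O_D)

/-- The image of a section under the structure map, as a ring map. -/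
noncomputable abbrev sharpHom (Y : D) : O_D.obj.obj (op Y) →+* O.obj.obj (op (f.fn.obj Y)) :=
  (f.sharp.hom.app (op Y)).hom

theorem sharpHom_res {Y Y' : D} (g : Y' ⟶ Y) (a : O_D.obj.obj (op Y)) :
    sharpHom f Y' (Null.res O_D g a) = Null.res O (f.fn.map g) (sharpHom f Y a) :=
  NatTrans.naturality_apply f.sharp.hom g.op a

/-- The image of a generating list generates the extended ideal. -/
theorem gen_push (I : DerComp.IdealSh O_D) (I' : DerComp.IdealSh O) (hI' : DerComp.RIsIdealExt f I I')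
    {Y : D} (m : List (O_D.obj.obj (op Y))) (hm : Gen m I) : Gen (m.map (sharpHom f Y)) I' := by
  haveI := f.exact
  refine ⟨fun g hg => ?_, fun V v a ha => ?_⟩
  · obtain ⟨g', hg', rfl⟩ := List.mem_map.1 hg
    exact hI'.1 Y g' (hm.1 g' hg')
  · have hle := hI'.2 (coSpan (m.map (sharpHom f Y))) ?_
    · have := hle V ha (𝟙 V) v
      rwa [res_id] at this
    · intro Y' g hg Z k b
      obtain ⟨S, hS, hS'⟩ := H15Site.PullSets.locally_pair (K := K) (J := J) f.fn
        (StructuredArrow.mk k) (StructuredArrow.mk b)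
      refine LocSpan.of_locally S hS fun Z' s hs => ?_
      obtain ⟨e, c, p, q, hp, hq⟩ := hS' s hs
      obtain ⟨T, hT, hT'⟩ := hm.2 q (Null.res O_D p g) (I.map_mem p hg)
      obtain ⟨S', hS'', hlift⟩ := H15Site.PullSets.locally_lift (K := K) (J := J) f.fn c T hT
      refine ⟨S', hS'', fun Z'' t ht => ?_⟩
      obtain ⟨e', r, c', hr, hc'⟩ := hlift t ht
      have h₁ := Ideal.mem_map_of_mem (sharpHom f e') (hT' r hr)
      rw [spanAt, Ideal.map_span] at h₁
      have h₂ := Ideal.mem_map_of_mem (Null.res O c') h₁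
      rw [Ideal.map_span, Set.image_image, Set.image_image] at h₂
      have hp' : c ≫ f.fn.map p = s ≫ k := hp
      have hq' : c ≫ f.fn.map q = s ≫ b := hq
      have key : c' ≫ f.fn.map (r ≫ p) = t ≫ s ≫ k := by
        rw [Functor.map_comp, reassoc_of% hc', hp']
      have key' : c' ≫ f.fn.map (r ≫ q) = t ≫ s ≫ b := by
        rw [Functor.map_comp, reassoc_of% hc', hq']
      rw [res_res, sharpHom_res, res_res, key] at h₂
      rw [res_res, res_res, Category.assoc]
      refine Ideal.span_mono ?_ h₂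
      rintro _ ⟨x, hx, rfl⟩
      exact ⟨sharpHom f Y x, List.mem_map.2 ⟨x, hx, rfl⟩, by dsimp only; rw [sharpHom_res, res_res, key']⟩

end Push

end Groth.Agent.H16Derived.DerCompLib.Null
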