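import Groth.Agent.H16Derived.DerComp.Null.Dual
import Groth.Agent.H16Derived.DerComp.Null.Span
import Groth.Agent.H16Derived.DerComp.SiteTensor
import Groth.Agent.H16Derived.DerComp.LocFun
import Groth.Agent.H02CA.ModRestrExact
import Groth.Agent.H10Coh.ModGroth
import Groth.Agent.H15Site.ModFlat
import Mathlib.Algebra.Homology.ShortComplex.Linear

/-!
# Koszul complexes of generators kill localisations at sections of the ideal
-/

set_option autoImplicit false
set_option linter.style.haveILetI false
set_option backward.isDefEq.respectTransparency false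

universe u v w r

open CategoryTheory CategoryTheory.Limits Opposite MonoidalCategory

namespace Groth.Agent.H16Derived.DerCompLib.Null

open H15Site H15Site.ModTensor H15Site.OverPre

attribute [local instance] HasDerivedCategory.standard
attribute [local instance 10000] SiteInst.hasSheafifySite SiteInst.hasWeakSheafifySite

variable {C : Type u} [SmallCategory C] {J : GrothendieckTopology C} (O : Sheaf J CommRingCat.{u})

/-- A section kills all sections over an object. -/
def KillAt (F : PMod O) {V : C} (a : O.obj.obj (op V)) : Prop :=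
  ∀ x : F.obj (op V), (show (O.obj ⋙ forget₂ CommRingCat.{u} RingCat.{u}).obj (op V) from a) • x = 0

theorem killAt_of_iso {F F' : PMod O} (e : F ≅ F') {V : C} {a : O.obj.obj (op V)} (h : KillAt O F a) :
    KillAt O F' a := fun x => by
  have hx : (e.hom.app (op V)).hom ((e.inv.app (op V)).hom x) = x := by
    show ((e.inv ≫ e.hom).app (op V)).hom x = x
    rw [e.inv_hom_id]
    rfl
  rw [← hx, ← (e.hom.app (op V)).hom.map_smul, h, map_zero]

/-- Killing sections of the sheafification, locally on the presheaf. -/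
theorem killAt_aSh {P : PMod O} {V : C} (a : O.obj.obj (op V))
    (h : ∀ ⦃Z : C⦄ (k : Z ⟶ V) (y : P.obj (op Z)), ∃ S ∈ J Z, ∀ ⦃Z' : C⦄ (t : Z' ⟶ Z), S t →
      (show (O.obj ⋙ forget₂ CommRingCat.{u} RingCat.{u}).obj (op Z') from res O t (res O k a)) •
        rs P t.op y = 0) :
    KillAt O ((forg O).obj ((aSh O).obj P)) a := by
  intro x
  obtain ⟨hi, hs⟩ := (isIso_aSh_map_iff ((adj O).unit.app P)).1 inferInstance
  refine separated_forg ((aSh O).obj P) _ (liftSieve_mem ((adj O).unit.app P) (X := op V) x) _ _ fun Z k hk => ?_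
  obtain ⟨y, hy⟩ := exists_lift ((adj O).unit.app P) hk
  obtain ⟨S, hS, hS'⟩ := h k y
  refine separated_forg ((aSh O).obj P) (X := op Z) S hS _ _ fun Z' t ht => ?_
  let G := (forg O).obj ((aSh O).obj P)
  let φ := (((adj O).unit.app P).app (op Z')).hom
  have h1 : φ (rs P t.op y) = rs G t.op (rs G k.op x) :=
    (rs_app ((adj O).unit.app P) t.op y).trans (congrArg (rs G t.op) hy)
  refine ((congrArg (rs G t.op) (rs_smul G k.op _ x)).trans (rs_smul G t.op _ _)).trans ?_
  refine (congrArg (_ • ·) h1.symm).trans (((φ.map_smul _ _).symm.trans (congrArg φ (hS' t ht))).trans ?_)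
  exact (map_zero φ).trans ((congrArg (rs G t.op) (map_zero (G.presheaf.map k.op).hom)).trans
    (map_zero (G.presheaf.map t.op).hom)).symm

variable {O} {W : C} {l : List (O.obj.obj (op W))} {I : DerComp.IdealSh O}

/-- Sections of the presheaf extension are killed locally. -/
theorem killed_jp (hl : Gen l I) (H : ModSite.Mod (O.over W)) {N : ℕ}
    (hN : ∀ g ∈ l, (DerComp.GSec.ofSect O W g) ^ N • 𝟙 H = 0) {Z : C} {a : O.obj.obj (op Z)}
    (ha : a ∈ I.ideal Z) (y : ((ModOver.jp O W).obj ((forg (O.over W)).obj H)).obj (op Z)) :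
    ∃ S ∈ J Z, ∀ ⦃Z' : C⦄ (t : Z' ⟶ Z), S t →
      (show (O.obj ⋙ forget₂ CommRingCat.{u} RingCat.{u}).obj (op Z') from res O t (a ^ (l.length * N + 1))) •
        rs ((ModOver.jp O W).obj ((forg (O.over W)).obj H)) t.op y = 0 := by
  classical
  let M := (forg (O.over W)).obj H
  let P := (ModOver.jp O W).obj M
  change DirectSum (Z ⟶ W) (fun φ => fib (R := O.obj) (U := W) M (X := op Z) φ) at y
  induction y using DirectSum.induction_on with
  | zero =>
    exact ⟨⊤, J.top_mem Z, fun Z' t _ => (congrArg (_ • ·)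
      (map_zero (P.presheaf.map t.op).hom)).trans (smul_zero _)⟩
  | add y y' hy hy' =>
    obtain ⟨S, hS, hS'⟩ := hy
    obtain ⟨T, hT, hT'⟩ := hy'
    refine ⟨S ⊓ T, J.intersection_covering hS hT, fun Z' t ht => ?_⟩
    exact (congrArg (_ • ·) (rs_add P t.op y y')).trans ((smul_add _ _ _).trans
      ((congrArg₂ (· + ·) (hS' t ht.1) (hT' t ht.2)).trans (add_zero _)))
  | of φ m =>
    obtain ⟨S, hS, hS'⟩ := hl.2 φ a ha
    refine ⟨S, hS, fun Z' t ht => ?_⟩
    let X' : (Over W)ᵒᵖ := op (Over.mk (t ≫ φ))
    let e : Over.mk (t ≫ φ) ⟶ Over.mk φ := Over.homMk t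
    let m' : M.obj X' := M.map e.op m
    have hkill : ∀ g ∈ l, (show (O.over W).obj.obj X' from res O (t ≫ φ) g ^ N) • m' = 0 := by
      intro g hg
      have h1 : ((((DerComp.GSec.ofSect O W g) ^ N) • 𝟙 H).val.app X').hom m' = 0 := by
        rw [hN g hg]
        rfl
      rw [DerComp.smul_def, Category.comp_id] at h1
      have h2 : ((DerComp.GSec.ofSect O W g) ^ N).1 (Over.mk (t ≫ φ)) = res O (t ≫ φ) g ^ N := by
        rw [SubmonoidClass.coe_pow, Pi.pow_apply]
        rfl
      rw [← h2]
      exact h1
    have hspan : ∀ b : O.obj.obj (op Z'),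
        b ∈ Ideal.span ((fun g => res O (t ≫ φ) g ^ N) '' {x | x ∈ l}) →
          (show (O.over W).obj.obj X' from b) • m' = 0 := by
      intro b hb
      induction hb using Submodule.span_induction with
      | mem b hb =>
        obtain ⟨g, hg, rfl⟩ := hb
        exact hkill g hg
      | zero => exact zero_smul ((O.over W).obj.obj X') m'
      | add b c _ _ h h' =>
        exact (add_smul (R := (O.over W).obj.obj X') _ _ m').trans (by rw [h, h', add_zero])
      | smul r b _ h =>
        exact (mul_smul (α := (O.over W).obj.obj X') _ _ m').trans (by rw [h, smul_zero])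
    have hb : res O t (a ^ (l.length * N + 1)) ∈ Ideal.span ((fun g => res O (t ≫ φ) g ^ N) '' {x | x ∈ l}) := by
      rw [map_pow]
      exact pow_mem_spanAt N (t ≫ φ) (hS' t ht)
    have h3 : rs P t.op ((inc (R := O.obj) (U := W) M (X := op Z) φ).hom m) =
        (inc (R := O.obj) (U := W) M (X := op Z') (t ≫ φ)).hom m' :=
      jMap_inc (R := O.obj) (U := W) M t.op e rfl m
    refine (congrArg (_ • ·) h3).trans ?_
    refine ((inc (R := O.obj) (U := W) M (X := op Z') (t ≫ φ)).hom.map_smul _ m').symm.trans ?_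
    exact (congrArg (inc (R := O.obj) (U := W) M (X := op Z') (t ≫ φ)).hom (hspan _ hb)).trans (map_zero _)

/-- A section of the ideal acts nilpotently on extensions of killed modules. -/
theorem pow_smul_restr_extZero (hl : Gen l I) (H : ModSite.Mod (O.over W)) {N : ℕ}
    (hN : ∀ g ∈ l, (DerComp.GSec.ofSect O W g) ^ N • 𝟙 H = 0) {U : C} {f : O.obj.obj (op U)}
    (hf : f ∈ I.ideal U) :
    (DerComp.GSec.ofSect O U f) ^ (l.length * N + 1) •
      𝟙 ((ModSite.restr O U).obj ((ModSite.extZero O W).obj H)) = 0 := by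
  refine SheafOfModules.hom_ext (PresheafOfModules.hom_ext fun X => ModuleCat.hom_ext (LinearMap.ext fun x => ?_))
  rw [DerComp.smul_def, Category.comp_id]
  have hk : KillAt O ((forg O).obj ((ModSite.extZero O W).obj H)) (res O X.unop.hom (f ^ (l.length * N + 1))) := by
    refine killAt_of_iso O ((forg O).mapIso (ModOver.jApp O W H)) (killAt_aSh O _ fun Z k y => ?_)
    obtain ⟨S, hS, h⟩ := killed_jp hl H hN (I.map_mem k (I.map_mem X.unop.hom hf)) y
    refine ⟨S, hS, fun Z' t ht => ?_⟩
    have := h t ht
    simp only [map_pow] at this ⊢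
    exact this
  have h2 : ((DerComp.GSec.ofSect O U f) ^ (l.length * N + 1)).1 X.unop =
      res O X.unop.hom (f ^ (l.length * N + 1)) := by
    rw [SubmonoidClass.coe_pow, Pi.pow_apply, map_pow]
    rfl
  have := hk x
  rw [← h2] at this
  exact this

section Loc

variable {R : Type r} [CommRing R] {A : Type v} [Category.{w} A] [Abelian A] [IsGrothendieckAbelian.{w} A]
  [Linear R A]

/-- Localisation kills nilpotent objects. -/
theorem isZero_Loc {s : R} {X : A} {M : ℕ} (h : s ^ M • 𝟙 X = 0) : IsZero ((Loc s).obj X) := by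
  let π := cokernel.π (away X (s • 𝟙 X))
  have hπ : ∀ n, Sigma.ι (fun _ : ℕ => X) n ≫ π = s • (Sigma.ι (fun _ : ℕ => X) (n + 1) ≫ π) := fun n => by
    have h0 : Sigma.ι (fun _ : ℕ => X) n ≫ away X (s • 𝟙 X) ≫ π = 0 := by rw [cokernel.condition, comp_zero]
    have h1 : Sigma.ι (fun _ : ℕ => X) n ≫ away X (s • 𝟙 X) =
        Sigma.ι (fun _ : ℕ => X) n - (s • 𝟙 X) ≫ Sigma.ι (fun _ : ℕ => X) (n + 1) := Sigma.ι_desc _ _
    rw [← Category.assoc, h1, Preadditive.sub_comp, sub_eq_zero, Category.assoc, Linear.smul_comp,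
      Category.id_comp] at h0
    exact h0
  have hπM : ∀ k n, Sigma.ι (fun _ : ℕ => X) n ≫ π = s ^ k • (Sigma.ι (fun _ : ℕ => X) (n + k) ≫ π) := by
    intro k
    induction k with
    | zero => intro n; rw [pow_zero, one_smul, add_zero]
    | succ k ih => intro n; rw [ih n, hπ (n + k), smul_smul, ← pow_succ, add_assoc]
  have : π = 0 := Sigma.hom_ext _ _ fun n => by
    rw [comp_zero, hπM M n, ← Category.id_comp (Sigma.ι (fun _ : ℕ => X) (n + M) ≫ π), ← Linear.smul_comp, h,
      zero_comp]
  rw [IsZero.iff_id_eq_zero, ← cancel_epi π, this, zero_comp, zero_comp]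

end Loc

section Homology

variable {R : Type r} [CommRing R] {A : Type v} [Category.{w} A] [Abelian A] [Linear R A]

theorem pow_smul_homology [HasDerivedCategory A] (K : CochainComplex A ℤ) {c : R}
    (h : c • 𝟙 (DerivedCategory.Q.obj K) = 0) (n : ℤ) : c • 𝟙 (K.homology n) = 0 := by
  have hQ : DerivedCategory.Q.map (c • 𝟙 K) = 0 := by
    rw [Functor.map_smul, CategoryTheory.Functor.map_id, h]
  have h1 : HomologicalComplex.homologyMap (c • 𝟙 K) n = 0 := by
    have := NatIso.naturality_1 (DerivedCategory.homologyFunctorFactors A n) (c • 𝟙 K)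
    rw [Functor.comp_map, hQ, Functor.map_zero, zero_comp, comp_zero] at this
    exact this.symm
  have h2 : HomologicalComplex.homologyMap (c • 𝟙 K) n = c • 𝟙 (K.homology n) := by
    show ShortComplex.homologyMap ((HomologicalComplex.shortComplexFunctor A (ComplexShape.up ℤ) n).map _) = _
    rw [show (HomologicalComplex.shortComplexFunctor A (ComplexShape.up ℤ) n).map (c • 𝟙 K) =
      c • 𝟙 (K.sc n) from rfl, ShortComplex.homologyMap_smul, ShortComplex.homologyMap_id]
    rfl
  rw [← h2, h1]

omit [Linear R A] in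
theorem isZero_Q_of_exactAt [HasDerivedCategory A] (K : CochainComplex A ℤ) (h : ∀ n, K.ExactAt n) :
    IsZero (DerivedCategory.Q.obj K) := by
  haveI : QuasiIso (0 : K ⟶ K) :=
    ⟨fun n => (quasiIsoAt_iff_exactAt _ n (h n)).2 (h n)⟩
  haveI : IsIso (DerivedCategory.Q.map (0 : K ⟶ K)) :=
    Localization.inverts DerivedCategory.Q (HomologicalComplex.quasiIso A (ComplexShape.up ℤ)) _
      (inferInstance : QuasiIso (0 : K ⟶ K))
  have h0 := IsIso.hom_inv_id (DerivedCategory.Q.map (0 : K ⟶ K))
  rw [IsZero.iff_id_eq_zero, ← h0]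
  exact (congrArg (· ≫ inv (DerivedCategory.Q.map (0 : K ⟶ K))) (DerivedCategory.Q.map_zero K K)).trans zero_comp

variable {B : Type v} [Category.{w} B] [Abelian B] (F : A ⥤ B) [F.Additive] [PreservesFiniteLimits F]
  [PreservesFiniteColimits F]

theorem exactAt_map_iff (K : CochainComplex A ℤ) (n : ℤ) :
    ((F.mapHomologicalComplex (ComplexShape.up ℤ)).obj K).ExactAt n ↔ IsZero (F.obj (K.homology n)) :=
  (HomologicalComplex.exactAt_iff _ _).trans
    ((ShortComplex.exact_iff_isZero_homology _).trans
      (Iso.isZero_iff ((K.sc n).mapHomologyIso F)))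

omit [PreservesFiniteLimits F] [PreservesFiniteColimits F] in
theorem kIso_map_single {A' : Type v} [Category.{w} A'] [Abelian A'] [Linear R A'] (E : A' ⥤ B) [E.Additive]
    (u : A) (t : A') (i : F.obj u ≅ E.obj t) (hi : ∀ g : R, F.map (g • 𝟙 u) ≫ i.hom = i.hom ≫ E.map (g • 𝟙 t)) :
    KIso ((scal R ((HomologicalComplex.single A (ComplexShape.up ℤ) 0).obj u)).map F)
      ((scal R ((HomologicalComplex.single A' (ComplexShape.up ℤ) 0).obj t)).map E) := by
  let σ := HomologicalComplex.singleMapHomologicalComplex F (ComplexShape.up ℤ) 0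
  let τ := HomologicalComplex.singleMapHomologicalComplex E (ComplexShape.up ℤ) 0
  refine ⟨σ.app u ≪≫ (HomologicalComplex.single B (ComplexShape.up ℤ) 0).mapIso i ≪≫ (τ.app t).symm, fun g => ?_⟩
  have hu : g • 𝟙 ((HomologicalComplex.single A (ComplexShape.up ℤ) 0).obj u) =
      (HomologicalComplex.single A (ComplexShape.up ℤ) 0).map (g • 𝟙 u) :=
    HomologicalComplex.from_single_hom_ext (by simp [HomologicalComplex.single_map_f_self, Linear.smul_comp, Linear.comp_smul])
  have ht : g • 𝟙 ((HomologicalComplex.single A' (ComplexShape.up ℤ) 0).obj t) =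
      (HomologicalComplex.single A' (ComplexShape.up ℤ) 0).map (g • 𝟙 t) :=
    HomologicalComplex.from_single_hom_ext (by simp [HomologicalComplex.single_map_f_self, Linear.smul_comp, Linear.comp_smul])
  show (F.mapHomologicalComplex _).map (g • 𝟙 _) ≫ _ = _ ≫ (E.mapHomologicalComplex _).map (g • 𝟙 _)
  rw [hu, ht]
  have h1 := σ.hom.naturality (g • 𝟙 u)
  have h2 := τ.inv.naturality (g • 𝟙 t)
  dsimp at h1 h2 ⊢
  rw [reassoc_of% h1, Category.assoc, Category.assoc, ← h2, ← Functor.map_comp_assoc, hi,
    Functor.map_comp_assoc]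

end Homology

variable (O)

/-- The symmetry of the tensor product. -/
noncomputable def tSym (T : ModSite.Mod O) : tR T ≅ (ModSite.tensorBi O).obj T :=
  NatIso.ofComponents (fun X => (aSh O).mapIso (β_ ((forg O).obj X) ((forg O).obj T))) fun {X Y} h =>
    ((aSh O).map_comp _ _).symm.trans ((congrArg (aSh O).map
      (BraidedCategory.braiding_naturality_left ((forg O).map h) ((forg O).obj T))).trans ((aSh O).map_comp _ _))

/-- The Koszul complex of `O_W`. -/
noncomputable abbrev kU (W : C) (l : List (O.obj.obj (op W))) (X : ModSite.Mod (O.over W)) :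
    CochainComplex (ModSite.Mod (O.over W)) ℤ :=
  kX (DerComp.GSec (O.over W)) (l.map (DerComp.GSec.ofSect O W))
    ((HomologicalComplex.single (ModSite.Mod (O.over W)) (ComplexShape.up ℤ) 0).obj X)

variable {O}

/-- The Koszul complex of generators on the restriction of `j_! O_{U,f}` is acyclic. -/
theorem isZero_kU_test (hl : Gen l I) {U : C} {f : O.obj.obj (op U)} (hf : f ∈ I.ideal U) :
    IsZero (DerivedCategory.Q.obj (kU O W l
      ((ModSite.restr O W).obj ((ModSite.extZero O U).obj (DerComp.awayOver O U f))))) := by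
  haveI := H10Coh.isGrothendieckAbelian_sheafOfModules (ModSite.ringSh (O.over U))
  let T := (ModSite.extZero O U).obj (DerComp.awayOver O U f)
  let T' := (ModSite.restr O W).obj T
  let s := DerComp.GSec.ofSect O U f
  let ls := l.map (DerComp.GSec.ofSect O W)
  let E := ModSite.extZero O W
  haveI := ModOver.additive_extZero O W
  haveI := ModOver.preservesFiniteLimits_extZero O W
  haveI := ModOver.preservesFiniteColimits_extZero O W
  haveI := ModOver.additive_extZero O U
  haveI := ModOver.preservesFiniteLimits_extZero O U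
  haveI := ModOver.preservesFiniteColimits_extZero O U
  haveI := additive_tR T
  haveI := H02CA.ModRestrExact.preservesFiniteLimits_restr O U
  haveI := H02CA.ModRestrExact.preservesFiniteColimits_restr O U
  haveI : (ModSite.restr O U).Additive := Functor.additive_of_preserves_binary_products _
  haveI := preservesFiniteColimits_Loc (A := ModSite.Mod (O.over U)) s
  haveI := preservesFiniteLimits_Loc (A := ModSite.Mod (O.over U)) s
  let K0 := kU O W l (ModSite.unit (O.over W))
  let H := E ⋙ ModSite.restr O U ⋙ Loc s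
  haveI : PreservesFiniteLimits H := by dsimp only [H]; infer_instance
  haveI : PreservesFiniteColimits H := by dsimp only [H]; infer_instance
  -- the localised extension is acyclic
  have hH : ∀ n, ((H.mapHomologicalComplex (ComplexShape.up ℤ)).obj K0).ExactAt n := fun n => by
    rw [exactAt_map_iff]
    obtain ⟨N, hN⟩ := exists_pow_smul_eq_zero_all ls
      ((HomologicalComplex.single (ModSite.Mod (O.over W)) (ComplexShape.up ℤ) 0).obj (ModSite.unit (O.over W)))
    exact isZero_Loc (pow_smul_restr_extZero hl (K0.homology n)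
      (fun g hg => pow_smul_homology K0 (hN _ (List.mem_map.2 ⟨g, hg, rfl⟩)) n) hf)
  -- transport
  let ν : E ⋙ tR T ≅ H ⋙ ModSite.extZero O U :=
    Functor.isoWhiskerLeft E (tSym O T ≪≫ (ModOver.extProjR O U (DerComp.awayOver O U f)).symm ≪≫
      Functor.isoWhiskerLeft (ModSite.restr O U)
        (Functor.isoWhiskerRight (locTensor (O.over U) s).symm (ModSite.extZero O U)))
  have hbase : KIso ((scal (DerComp.GSec (O.over W))
        ((HomologicalComplex.single (ModSite.Mod (O.over W)) (ComplexShape.up ℤ) 0).obj (ModSite.unit (O.over W)))).map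
        (E ⋙ tR T))
      ((scal (DerComp.GSec (O.over W))
        ((HomologicalComplex.single (ModSite.Mod (O.over W)) (ComplexShape.up ℤ) 0).obj T')).map E) := by
    refine kIso_map_single (E ⋙ tR T) E _ _ ((ModOver.freeOnTensor O W).app T) fun g => ?_
    rw [DerComp.smul_def, DerComp.smul_def, Category.comp_id, Category.comp_id]
    exact smul_freeOnTensor O W g T
  have hk := ((kIso_map_kos (E ⋙ tR T) _ ls).trans (hbase.kos ls)).trans (kIso_map_kos E _ ls).symm
  obtain ⟨e, -⟩ := hk
  let e' := ((NatIso.mapHomologicalComplex ν (ComplexShape.up ℤ)).app K0).symm ≪≫ e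
  have hE : ∀ n, ((E.mapHomologicalComplex (ComplexShape.up ℤ)).obj (kU O W l T')).ExactAt n := fun n => by
    refine HomologicalComplex.ExactAt.of_iso ?_ e'
    exact (exactAt_map_iff (ModSite.extZero O U) ((H.mapHomologicalComplex _).obj K0) n).2
      ((ModSite.extZero O U).map_isZero ((hH n).isZero_homology))
  haveI := ModOver.faithful_extZero O W
  refine isZero_Q_of_exactAt _ fun n => ?_
  rw [HomologicalComplex.exactAt_iff_isZero_homology, IsZero.iff_id_eq_zero]
  apply E.map_injective
  rw [Functor.map_zero]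
  exact ((exactAt_map_iff E _ n).1 (hE n)).eq_of_src _ _

end Groth.Agent.H16Derived.DerCompLib.Null
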