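import Groth.Agent.H16Derived.DerComp.Null.Pl

/-!
# Duality and nilpotence for Koszul complexes of scalars
-/

set_option autoImplicit false
set_option linter.style.haveILetI false
set_option backward.isDefEq.respectTransparency false

universe w v u r

open CategoryTheory CategoryTheory.Limits CategoryTheory.Pretriangulated

namespace Groth.Agent.H16Derived.DerCompLib.Null

variable {R : Type r} [CommRing R] {A : Type u} [Category.{v} A] [Abelian A] [Linear R A]
  [HasDerivedCategory.{w} A]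

theorem comp_smul_id_shift {f : R} {P B : DerivedCategory A} (n : ℤ) (x : P ⟶ B⟦n⟧) :
    x ≫ (f • 𝟙 B)⟦n⟧' = f • x := by
  rw [Functor.map_smul, CategoryTheory.Functor.map_id, Linear.comp_smul, Category.comp_id]

/-- Maps into a cone of multiplication vanish exactly when multiplication is bijective. -/
theorem subsingleton_to_cone_iff {f : R} {B C : DerivedCategory A} {i : B ⟶ C} {d : C ⟶ B⟦(1 : ℤ)⟧}
    (hT : Triangle.mk (f • 𝟙 B) i d ∈ distTriang (DerivedCategory A)) (P : DerivedCategory A) :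
    (∀ n : ℤ, Subsingleton (P ⟶ C⟦n⟧)) ↔ ∀ n : ℤ, Bij f P (B⟦n⟧) := by
  constructor
  · intro h n
    have hn := Triangle.shift_distinguished _ hT n
    constructor
    · intro x y hxy
      haveI : Subsingleton (P ⟶ C⟦n⟧⟦(-1 : ℤ)⟧) :=
        haveI := h (n - 1)
        (((Iso.refl P).homCongr
          ((shiftFunctorAdd' (DerivedCategory A) n (-1) (n - 1) (by omega)).app C))).symm.subsingleton
      obtain ⟨z, hz⟩ := Triangle.coyoneda_exact₂ _ (inv_rot_of_distTriang _ hn) (x - y) (by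
        show (x - y) ≫ (n.negOnePow • (f • 𝟙 B)⟦n⟧') = 0
        rw [Linear.comp_units_smul, comp_smul_id_shift, smul_sub]
        exact (congrArg (n.negOnePow • ·) (sub_eq_zero.2 hxy)).trans (smul_zero _))
      rw [← sub_eq_zero, hz, Subsingleton.elim (α := P ⟶ C⟦n⟧⟦(-1 : ℤ)⟧) z 0, zero_comp]
    · intro w
      obtain ⟨z, hz⟩ := Triangle.coyoneda_exact₂ _ hn w ((h n).elim _ _)
      let z' : P ⟶ B⟦n⟧ := z
      refine ⟨n.negOnePow • z', ?_⟩
      change w = z' ≫ (n.negOnePow • (f • 𝟙 B)⟦n⟧') at hz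
      rw [hz, Linear.comp_units_smul, comp_smul_id_shift]
      exact smul_comm f n.negOnePow z'
  · intro h n
    refine subsingleton_of_forall_eq 0 fun x => ?_
    have hn := Triangle.shift_distinguished _ hT n
    let T := (Triangle.shiftFunctor (DerivedCategory A) n).obj (Triangle.mk (f • 𝟙 B) i d)
    let t : C⟦n⟧ ⟶ (B⟦n⟧)⟦(1 : ℤ)⟧ := T.mor₃
    have h31 : t ≫ (n.negOnePow • (f • 𝟙 B)⟦n⟧')⟦(1 : ℤ)⟧' = 0 := comp_distTriang_mor_zero₃₁ T hn
    have hd : x ≫ t = 0 := by
      have hbij : Bij f P ((B⟦n⟧)⟦(1 : ℤ)⟧) :=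
        bij_of_iso (Iso.refl P) ((shiftFunctorAdd' (DerivedCategory A) n 1 (n + 1) rfl).app B) (h (n + 1))
      refine hbij.1 ?_
      dsimp only
      rw [smul_zero]
      have h0 : (x ≫ t) ≫ (n.negOnePow • (f • 𝟙 B)⟦n⟧')⟦(1 : ℤ)⟧' = 0 :=
        (Category.assoc _ _ _).trans ((congrArg (x ≫ ·) h31).trans comp_zero)
      rw [Units.smul_def, Functor.map_zsmul, Preadditive.comp_zsmul, Functor.map_smul,
        Functor.map_smul] at h0
      simp only [CategoryTheory.Functor.map_id, Linear.comp_smul, Category.comp_id] at h0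
      have h1 := congrArg ((n.negOnePow : ℤ) • ·) h0
      rw [smul_smul, ← Units.val_mul, Int.units_mul_self, Units.val_one, one_smul, smul_zero] at h1
      exact h1
    obtain ⟨y, rfl⟩ := T.coyoneda_exact₃ hn x hd
    obtain ⟨z, rfl⟩ := (h n).2 y
    show (f • z) ≫ T.mor₂ = 0
    have h12 : T.mor₁ ≫ T.mor₂ = 0 := comp_distTriang_mor_zero₁₂ T hn
    have h2 : (n.negOnePow • (f • 𝟙 B)⟦n⟧') ≫ T.mor₂ = 0 := h12
    have h3 := congrArg (z ≫ ·) h2
    simp only [Linear.units_smul_comp, Linear.comp_units_smul, comp_zero] at h3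
    rw [← Category.assoc, comp_smul_id_shift] at h3
    exact (smul_eq_zero_iff_eq n.negOnePow).1 h3

theorem kos_append {R₀ : Type r} (l₁ l₂ : List R₀) (a : KAct R₀ A) :
    kos (l₁ ++ l₂) a = kos l₁ (kos l₂ a) := by
  induction l₁ with
  | nil => rfl
  | cons f l ih => exact congrArg (KAct.cone · f) ih

theorem kX_append (l : List R) (f : R) (X : CochainComplex A ℤ) :
    kX R (l ++ [f]) X = kX R l (kX R [f] X) := by
  show (kos (l ++ [f]) (scal R X)).X = (kos l (scal R (kX R [f] X))).X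
  rw [kos_append, ← kos_scal]

/-- Maps out of a Koszul complex are maps into the reversed one. -/
theorem pl_iff_right (l : List R) (X Y : CochainComplex A ℤ) :
    Pl l X (DerivedCategory.Q.obj Y) ↔
      ∀ n : ℤ, Subsingleton (DerivedCategory.Q.obj X ⟶ (DerivedCategory.Q.obj (kX R l.reverse Y))⟦n⟧) := by
  induction l generalizing Y with
  | nil => exact Iff.rfl
  | cons f l ih =>
    rw [List.reverse_cons, kX_append, pl_cons]
    obtain ⟨i, d, hT⟩ := exists_triangle f [] Y
    refine Iff.trans (Iff.symm ?_) (ih (kX R [f] Y))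
    exact subsingleton_to_cone_iff hT _

theorem pl_of_isZero_right (l : List R) (X Y : CochainComplex A ℤ)
    (h : IsZero (DerivedCategory.Q.obj (kX R l.reverse Y))) : Pl l X (DerivedCategory.Q.obj Y) :=
  (pl_iff_right l X Y).2 fun n => ⟨fun x y => ((shiftFunctor _ n).map_isZero h).eq_of_tgt x y⟩

theorem subsingleton_to_kX_of_isZero (l : List R) (X Y : CochainComplex A ℤ)
    (h : IsZero (DerivedCategory.Q.obj (kX R l.reverse X))) (n : ℤ) :
    Subsingleton (DerivedCategory.Q.obj X ⟶ (DerivedCategory.Q.obj (kX R l Y))⟦n⟧) := by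
  have := (pl_iff_right l.reverse X Y).1 (fun m => ⟨fun x y => h.eq_of_src x y⟩) n
  rwa [List.reverse_reverse] at this

/-- Vanishing of maps into all Koszul complexes from an object. -/
theorem isZero_kX_of_subsingleton (l : List R) (Y : CochainComplex A ℤ)
    (h : ∀ n : ℤ, Subsingleton (DerivedCategory.Q.obj Y ⟶ (DerivedCategory.Q.obj (kX R l Y))⟦n⟧)) :
    IsZero (DerivedCategory.Q.obj (kX R l Y)) := by
  haveI := pl_of_hom_zero l Y _ h 0
  haveI : Subsingleton (DerivedCategory.Q.obj (kX R l Y) ⟶ DerivedCategory.Q.obj (kX R l Y)) :=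
    ((Iso.refl _).homCongr ((shiftFunctorZero (DerivedCategory A) ℤ).app _)).symm.subsingleton
  rw [IsZero.iff_id_eq_zero]
  exact Subsingleton.elim _ _

theorem sq_smul_id_eq_zero {a : R} {Y C : DerivedCategory A} {m : Y ⟶ Y} {i : Y ⟶ C} {d : C ⟶ Y⟦(1 : ℤ)⟧}
    (hT : Triangle.mk m i d ∈ distTriang (DerivedCategory A)) (hi : a • i = 0) (hd : a • d = 0) :
    (a * a) • 𝟙 C = 0 := by
  obtain ⟨z, hz⟩ := Triangle.yoneda_exact₃ _ hT (a • 𝟙 C) (by
    show i ≫ (a • 𝟙 C) = 0
    rw [Linear.comp_smul, Category.comp_id, hi])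
  change a • 𝟙 C = d ≫ z at hz
  rw [← smul_smul, hz, ← Linear.smul_comp, hd, zero_comp]

/-- Members of the list act nilpotently on the Koszul complex. -/
theorem exists_pow_smul_eq_zero (l : List R) (X : CochainComplex A ℤ) {g : R} (hg : g ∈ l) :
    ∃ N : ℕ, g ^ N • 𝟙 (DerivedCategory.Q.obj (kX R l X)) = 0 := by
  induction l with
  | nil => simp at hg
  | cons f l ih =>
    obtain ⟨i, d, hT⟩ := exists_triangle f l X
    rcases List.mem_cons.1 hg with rfl | hg'
    · refine ⟨2, ?_⟩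
      rw [pow_two]
      refine sq_smul_id_eq_zero hT ?_ ?_
      · have h : (g • 𝟙 _) ≫ i = 0 := comp_distTriang_mor_zero₁₂ _ hT
        rwa [Linear.smul_comp, Category.id_comp] at h
      · have h : d ≫ (g • 𝟙 _)⟦(1 : ℤ)⟧' = 0 := comp_distTriang_mor_zero₃₁ _ hT
        rwa [comp_smul_id_shift] at h
    · obtain ⟨N, hN⟩ := ih hg'
      refine ⟨N + N, ?_⟩
      rw [pow_add]
      refine sq_smul_id_eq_zero hT ?_ ?_
      · rw [← Category.id_comp i, ← Linear.smul_comp, hN, zero_comp]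
      · rw [← comp_smul_id_shift (1 : ℤ) d, hN, Functor.map_zero, comp_zero]

/-- A uniform exponent. -/
theorem exists_pow_smul_eq_zero_all (l : List R) (X : CochainComplex A ℤ) :
    ∃ N : ℕ, ∀ g ∈ l, g ^ N • 𝟙 (DerivedCategory.Q.obj (kX R l X)) = 0 := by
  choose N hN using fun g (hg : g ∈ l) => exists_pow_smul_eq_zero l X hg
  classical
  refine ⟨(l.attach.map fun g => N g.1 g.2).sum, fun g hg => ?_⟩
  obtain ⟨k, hk⟩ := Nat.exists_eq_add_of_le (List.le_sum_of_mem
    (List.mem_map.2 ⟨⟨g, hg⟩, List.mem_attach l _, rfl⟩ :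
      N g hg ∈ l.attach.map fun g => N g.1 g.2))
  rw [hk, pow_add, mul_comm, ← smul_smul, hN, smul_zero]

end Groth.Agent.H16Derived.DerCompLib.Null
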