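import Mathlib.Algebra.Homology.DerivedCategory.Linear
import Mathlib.Algebra.Homology.HomotopyCategory.MappingCone
import Mathlib.Algebra.Homology.DerivedCategory.Basic

/-!
# Koszul complexes of commuting endomorphisms
-/

set_option autoImplicit false
set_option linter.style.haveILetI false
set_option backward.isDefEq.respectTransparency false

universe w v u r

open CategoryTheory CategoryTheory.Limits CochainComplex

namespace Groth.Agent.H16Derived.DerCompLib.Null

variable {R : Type r} {A : Type u} [Category.{v} A] [Abelian A]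

section Aux

variable {K₁ L₁ K₂ L₂ : CochainComplex A ℤ} {φ₁ : K₁ ⟶ L₁} {φ₂ : K₂ ⟶ L₂} (a : K₁ ⟶ K₂) (b : L₁ ⟶ L₂)
  (comm : φ₁ ≫ b = a ≫ φ₂)

@[reassoc]
theorem map_f_fst (n m : ℤ) (h : n + 1 = m) :
    (mappingCone.map φ₁ φ₂ a b comm).f n ≫ (mappingCone.fst φ₂).1.v n m h =
      (mappingCone.fst φ₁).1.v n m h ≫ a.f m := by
  rw [mappingCone.ext_from_iff _ m n h]
  simp [mappingCone.map]

@[reassoc]
theorem map_f_snd (n : ℤ) :
    (mappingCone.map φ₁ φ₂ a b comm).f n ≫ (mappingCone.snd φ₂).v n n (add_zero n) =
      (mappingCone.snd φ₁).v n n (add_zero n) ≫ b.f n := by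
  rw [mappingCone.ext_from_iff _ (n + 1) n rfl]
  simp [mappingCone.map]

end Aux

/-- A complex with commuting endomorphisms indexed by `R`. -/
structure KAct (R : Type r) (A : Type u) [Category.{v} A] [Abelian A] where
  X : CochainComplex A ℤ
  act : R → (X ⟶ X)
  comm : ∀ a b, act a ≫ act b = act b ≫ act a

/-- One step. -/
noncomputable def KAct.cone (a : KAct R A) (f : R) : KAct R A where
  X := mappingCone (a.act f)
  act g := mappingCone.map _ _ (a.act g) (a.act g) (a.comm f g)
  comm g h := by
    rw [← mappingCone.map_comp, ← mappingCone.map_comp]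
    simp only [a.comm g h]

/-- The Koszul complex. -/
noncomputable def kos : List R → KAct R A → KAct R A
  | [], a => a
  | f :: l, a => (kos l a).cone f

/-- An equivariant isomorphism exists. -/
def KIso (a b : KAct R A) : Prop := ∃ e : a.X ≅ b.X, ∀ g, a.act g ≫ e.hom = e.hom ≫ b.act g

theorem KIso.refl (a : KAct R A) : KIso a a := ⟨Iso.refl _, fun g => by simp⟩

theorem KIso.symm {a b : KAct R A} (h : KIso a b) : KIso b a := by
  obtain ⟨e, he⟩ := h
  exact ⟨e.symm, fun g => by rw [Iso.symm_hom, Iso.eq_inv_comp, ← Category.assoc, ← he g,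
    Category.assoc, e.hom_inv_id, Category.comp_id]⟩

theorem KIso.trans {a b c : KAct R A} (h : KIso a b) (h' : KIso b c) : KIso a c := by
  obtain ⟨e, he⟩ := h
  obtain ⟨e', he'⟩ := h'
  exact ⟨e ≪≫ e', fun g => by rw [Iso.trans_hom, reassoc_of% he g, he' g, Category.assoc]⟩

theorem KIso.cone {a b : KAct R A} (h : KIso a b) (f : R) : KIso (a.cone f) (b.cone f) := by
  obtain ⟨e, he⟩ := h
  have he' : ∀ g, b.act g ≫ e.inv = e.inv ≫ a.act g := fun g => by
    rw [Iso.eq_inv_comp, ← Category.assoc, ← he g, Category.assoc, e.hom_inv_id, Category.comp_id]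
  let E : mappingCone (a.act f) ≅ mappingCone (b.act f) :=
    { hom := mappingCone.map _ _ e.hom e.hom (he f)
      inv := mappingCone.map _ _ e.inv e.inv (he' f)
      hom_inv_id := by rw [← mappingCone.map_comp]; simp only [e.hom_inv_id]; exact mappingCone.map_id _
      inv_hom_id := by rw [← mappingCone.map_comp]; simp only [e.inv_hom_id]; exact mappingCone.map_id _ }
  refine ⟨E, fun g => ?_⟩
  · show mappingCone.map _ _ _ _ (a.comm f g) ≫ mappingCone.map _ _ _ _ (he f) =
      mappingCone.map _ _ _ _ (he f) ≫ mappingCone.map _ _ _ _ (b.comm f g)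
    rw [← mappingCone.map_comp, ← mappingCone.map_comp]
    simp only [he g]

theorem KIso.kos {a b : KAct R A} (h : KIso a b) : ∀ l : List R, KIso (kos l a) (kos l b)
  | [] => h
  | f :: l => (KIso.kos h l).cone f

/-- Change of the index set. -/
noncomputable def KAct.comap {R' : Type*} (a : KAct R A) (ρ : R' → R) : KAct R' A where
  X := a.X
  act g := a.act (ρ g)
  comm g h := a.comm _ _

theorem kos_comap {R' : Type*} (ρ : R' → R) (a : KAct R A) :
    ∀ l : List R', kos l (a.comap ρ) = (kos (l.map ρ) a).comap ρ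
  | [] => rfl
  | f :: l => by
    show (kos l (a.comap ρ)).cone f = _
    rw [kos_comap ρ a l]
    rfl

section Functor

variable {B : Type*} [Category B] [Abelian B] (G : A ⥤ B) [G.Additive]

/-- Image under an additive functor. -/
noncomputable def KAct.map (a : KAct R A) : KAct R B where
  X := (G.mapHomologicalComplex (ComplexShape.up ℤ)).obj a.X
  act g := (G.mapHomologicalComplex (ComplexShape.up ℤ)).map (a.act g)
  comm g h := by rw [← Functor.map_comp, ← Functor.map_comp, a.comm g h]

theorem KIso.map {a b : KAct R A} (h : KIso a b) : KIso (a.map G) (b.map G) := by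
  obtain ⟨e, he⟩ := h
  exact ⟨(G.mapHomologicalComplex _).mapIso e, fun g => by
    show (G.mapHomologicalComplex _).map _ ≫ (G.mapHomologicalComplex _).map _ = _
    rw [← Functor.map_comp, he g, Functor.map_comp]; rfl⟩

theorem kIso_map_of_natIso {G' : A ⥤ B} [G'.Additive] (ν : G ≅ G') (a : KAct R A) :
    KIso (a.map G) (a.map G') :=
  ⟨(NatIso.mapHomologicalComplex ν (ComplexShape.up ℤ)).app a.X,
    fun g => (NatIso.mapHomologicalComplex ν (ComplexShape.up ℤ)).hom.naturality (a.act g)⟩

theorem kIso_map_cone (a : KAct R A) (f : R) : KIso ((a.cone f).map G) ((a.map G).cone f) := by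
  refine ⟨mappingCone.mapHomologicalComplexIso (a.act f) G, fun g => ?_⟩
  show (G.mapHomologicalComplex (ComplexShape.up ℤ)).map
      (mappingCone.map (a.act f) (a.act f) (a.act g) (a.act g) (a.comm f g)) ≫
        (mappingCone.mapHomologicalComplexIso (a.act f) G).hom =
      (mappingCone.mapHomologicalComplexIso (a.act f) G).hom ≫
        mappingCone.map _ _ _ _ ((a.map G).comm f g)
  refine HomologicalComplex.hom_ext _ _ fun n => ?_
  rw [mappingCone.ext_to_iff _ _ (n + 1) rfl]
  constructor <;>
    simp [KAct.map, mappingCone.mapHomologicalComplexIso,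
      mappingCone.mapHomologicalComplexXIso_eq _ G n (n + 1) rfl, map_f_fst, map_f_snd,
      map_f_fst_assoc, map_f_snd_assoc, ← Functor.map_comp]
  · exact (congrArg (_ ≫ ·) (Category.comp_id _)).trans
      ((G.map_comp _ _).symm.trans (congrArg G.map (map_f_fst _ _ _ n (n + 1) rfl)))
  · exact (congrArg (_ ≫ ·) (Category.comp_id _)).trans
      ((G.map_comp _ _).symm.trans (congrArg G.map (map_f_snd _ _ _ n)))

theorem kIso_map_kos (a : KAct R A) : ∀ l : List R, KIso ((kos l a).map G) (kos l (a.map G))
  | [] => KIso.refl _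
  | f :: l => (kIso_map_cone G (kos l a) f).trans ((kIso_map_kos a l).cone f)

end Functor

section Scalar

variable [CommRing R] [Linear R A]

/-- A complex with its scalars. -/
noncomputable def scal (R : Type r) [CommRing R] [Linear R A] (X : CochainComplex A ℤ) : KAct R A where
  X := X
  act g := g • 𝟙 X
  comm g h := by
    simp only [Linear.comp_smul, Linear.smul_comp, Category.comp_id, smul_smul, mul_comm]

theorem cone_scal_act (f g : R) (X : CochainComplex A ℤ) :
    ((scal R X).cone f).act g = g • 𝟙 (mappingCone ((scal R X).act f)) := by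
  refine HomologicalComplex.hom_ext _ _ fun n => ?_
  show (mappingCone.map _ _ (g • 𝟙 X) (g • 𝟙 X) ((scal R X).comm f g)).f n = (g • 𝟙 (mappingCone _)).f n
  rw [mappingCone.ext_to_iff _ _ (n + 1) rfl, mappingCone.ext_from_iff _ (n + 1) n rfl,
    mappingCone.ext_from_iff _ (n + 1) n rfl]
  simp [mappingCone.map]

theorem kos_scal (X : CochainComplex A ℤ) :
    ∀ l : List R, kos l (scal R X) = scal R (kos l (scal R X)).X
  | [] => rfl
  | f :: l => by
    show (kos l (scal R X)).cone f = scal R ((kos l (scal R X)).cone f).X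
    rw [kos_scal X l]
    generalize (kos l (scal R X)).X = Y
    have h : ((scal R Y).cone f).act = fun g => g • 𝟙 ((scal R Y).cone f).X :=
      funext fun g => cone_scal_act f g Y
    show (⟨((scal R Y).cone f).X, ((scal R Y).cone f).act, _⟩ : KAct R A) = scal R _
    simp only [h]
    rfl

end Scalar

end Groth.Agent.H16Derived.DerCompLib.Null
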