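import Groth.Agent.H16Derived.DerComp.Null.Kos
import Groth.Agent.H16Derived.DerComp.CompGroup
import Groth.Agent.H16Derived.DerComp.Fibre

/-!
# Objects killed by Koszul complexes
-/

set_option autoImplicit false
set_option linter.style.haveILetI false
set_option backward.isDefEq.respectTransparency false

universe w v u r

open CategoryTheory CategoryTheory.Limits CategoryTheory.Pretriangulated

namespace Groth.Agent.H16Derived.DerCompLib.Null

variable {R : Type r} [CommRing R] {A : Type u} [Category.{v} A] [Abelian A] [Linear R A]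
  [HasDerivedCategory.{w} A]

/-- Multiplication is bijective on Hom. -/
def Bij (f : R) (X B : DerivedCategory A) : Prop := Function.Bijective fun x : X ⟶ B => f • x

theorem bij_of_iso {f : R} {X X' B B' : DerivedCategory A} (e : X ≅ X') (e' : B ≅ B') (h : Bij f X B) :
    Bij f X' B' := by
  let E : (X ⟶ B) ≃ (X' ⟶ B') := e.homCongr e'
  have hE : (fun x : X' ⟶ B' => f • x) = E ∘ (fun x : X ⟶ B => f • x) ∘ E.symm := funext fun x => by
    simp [E, Iso.homCongr, Linear.smul_comp, Linear.comp_smul]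
  show Function.Bijective fun x : X' ⟶ B' => f • x
  rw [hE]
  exact E.bijective.comp (h.comp E.symm.bijective)

theorem bij_shift {f : R} {X B : DerivedCategory A} (n : ℤ) (h : Bij f X B) : Bij f (X⟦n⟧) (B⟦n⟧) := by
  let E : (X ⟶ B) ≃ (X⟦n⟧ ⟶ B⟦n⟧) :=
    Equiv.ofBijective (fun x => x⟦n⟧') ((Functor.FullyFaithful.ofFullyFaithful _).map_bijective X B)
  have hE : (fun x : X⟦n⟧ ⟶ B⟦n⟧ => f • x) = E ∘ (fun x : X ⟶ B => f • x) ∘ E.symm := funext fun x => by
    obtain ⟨y, rfl⟩ := E.surjective x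
    simp only [Function.comp_apply, Equiv.symm_apply_apply]
    exact ((shiftFunctor (DerivedCategory A) n).map_smul f y).symm
  show Function.Bijective fun x : X⟦n⟧ ⟶ B⟦n⟧ => f • x
  rw [hE]
  exact E.bijective.comp (h.comp E.symm.bijective)

/-- Maps from a cone of multiplication vanish exactly when multiplication is bijective. -/
theorem subsingleton_cone_iff {f : R} {Y C : DerivedCategory A} {i : Y ⟶ C} {d : C ⟶ Y⟦(1 : ℤ)⟧}
    (hT : Triangle.mk (f • 𝟙 Y) i d ∈ distTriang (DerivedCategory A)) (B : DerivedCategory A) :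
    (∀ n : ℤ, Subsingleton (C ⟶ B⟦n⟧)) ↔ ∀ n : ℤ, Bij f Y (B⟦n⟧) := by
  have hf : ∀ {Z : DerivedCategory A} (z : Y ⟶ Z), (f • 𝟙 Y) ≫ z = f • z := fun z => by
    rw [Linear.smul_comp, Category.id_comp]
  constructor
  · intro h n
    refine ⟨fun x y hxy => ?_, fun w => ?_⟩
    · obtain ⟨z, hz⟩ := Triangle.yoneda_exact₂ _ hT (x - y) (by
        show (f • 𝟙 Y) ≫ (x - y) = 0
        rw [hf, smul_sub, sub_eq_zero]
        exact hxy)
      rw [← sub_eq_zero, hz, (h n).elim z 0, comp_zero]
    · haveI : Subsingleton (C⟦(-1 : ℤ)⟧ ⟶ B⟦n⟧) :=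
        ((Functor.FullyFaithful.ofFullyFaithful (shiftFunctor (DerivedCategory A) (1 : ℤ))).homEquiv.trans
          (((shiftFunctorCompIsoId (DerivedCategory A) (-1 : ℤ) 1 (by omega)).app C).homCongr
            ((shiftFunctorAdd' (DerivedCategory A) n 1 (n + 1) rfl).app B).symm)).subsingleton_congr.2 (h (n + 1))
      obtain ⟨z, hz⟩ := Triangle.yoneda_exact₂ _ (inv_rot_of_distTriang _ hT) w
        (Subsingleton.elim (α := C⟦(-1 : ℤ)⟧ ⟶ B⟦n⟧) _ _)
      exact ⟨z, (hf z).symm.trans hz.symm⟩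
  · intro h n
    refine subsingleton_of_forall_eq 0 fun x => ?_
    have hi : i ≫ x = 0 := (h n).1 (by
      show f • (i ≫ x) = f • (0 : Y ⟶ B⟦n⟧)
      rw [smul_zero, ← hf, ← Category.assoc, show (f • 𝟙 Y) ≫ i = 0 from comp_distTriang_mor_zero₁₂ _ hT, zero_comp])
    obtain ⟨z, hz⟩ := Triangle.yoneda_exact₃ _ hT x hi
    obtain ⟨w, hw⟩ := (bij_of_iso (Iso.refl _)
      ((shiftFunctorAdd' (DerivedCategory A) (n - 1) 1 n (by omega)).app B).symm (bij_shift 1 (h (n - 1)))).2 z
    dsimp only at hw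
    change x = d ≫ z at hz
    rw [hz, ← hw, show f • w = (f • 𝟙 Y)⟦(1 : ℤ)⟧' ≫ w by
      rw [Functor.map_smul, CategoryTheory.Functor.map_id, Linear.smul_comp, Category.id_comp],
      ← Category.assoc, show d ≫ (f • 𝟙 Y)⟦(1 : ℤ)⟧' = 0 from comp_distTriang_mor_zero₃₁ _ hT, zero_comp]

variable (R) in
/-- The underlying complex of the Koszul complex with scalars. -/
noncomputable abbrev kX (l : List R) (X : CochainComplex A ℤ) : CochainComplex A ℤ := (kos l (scal R X)).X

theorem exists_triangle (f : R) (l : List R) (X : CochainComplex A ℤ) :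
    ∃ (i : DerivedCategory.Q.obj (kX R l X) ⟶ DerivedCategory.Q.obj (kX R (f :: l) X))
      (d : DerivedCategory.Q.obj (kX R (f :: l) X) ⟶ (DerivedCategory.Q.obj (kX R l X))⟦(1 : ℤ)⟧),
      Triangle.mk (f • 𝟙 (DerivedCategory.Q.obj (kX R l X))) i d ∈ distTriang (DerivedCategory A) := by
  have h := DerivedCategory.mappingCone_triangle_distinguished ((kos l (scal R X)).act f)
  have hact : (kos l (scal R X)).act f = f • 𝟙 (kX R l X) := by
    have key : ∀ a b : KAct R A, a = b → b.act f = f • 𝟙 b.X → a.act f = f • 𝟙 a.X := by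
      rintro a _ rfl h; exact h
    exact key _ _ (kos_scal X l) rfl
  refine ⟨_, _, isomorphic_distinguished _ h _ (Triangle.isoMk _ _ (Iso.refl _) (Iso.refl _) (Iso.refl _) ?_
    ((Category.comp_id _).trans (Category.id_comp _).symm)
    ((congrArg (_ ≫ ·) (CategoryTheory.Functor.map_id _ _)).trans
      ((Category.comp_id _).trans (Category.id_comp _).symm)))⟩
  show (f • 𝟙 _) ≫ 𝟙 _ = 𝟙 _ ≫ DerivedCategory.Q.map ((kos l (scal R X)).act f)
  rw [hact, Functor.map_smul, CategoryTheory.Functor.map_id, Category.comp_id, Category.id_comp]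

/-- No maps from the Koszul complexes of `X`. -/
def Pl (l : List R) (X : CochainComplex A ℤ) (B : DerivedCategory A) : Prop :=
  ∀ n : ℤ, Subsingleton (DerivedCategory.Q.obj (kX R l X) ⟶ B⟦n⟧)

theorem pl_nil (X : CochainComplex A ℤ) (B : DerivedCategory A) :
    Pl (R := R) [] X B ↔ ∀ n : ℤ, Subsingleton (DerivedCategory.Q.obj X ⟶ B⟦n⟧) :=
  Iff.rfl

theorem pl_cons (f : R) (l : List R) (X : CochainComplex A ℤ) (B : DerivedCategory A) :
    Pl (f :: l) X B ↔ ∀ n : ℤ, Bij f (DerivedCategory.Q.obj (kX R l X)) (B⟦n⟧) := by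
  obtain ⟨i, d, hT⟩ := exists_triangle f l X
  exact subsingleton_cone_iff hT B

theorem pl_of_hom_zero (l : List R) (X : CochainComplex A ℤ) (B : DerivedCategory A)
    (h : ∀ n : ℤ, Subsingleton (DerivedCategory.Q.obj X ⟶ B⟦n⟧)) : Pl l X B := by
  induction l with
  | nil => exact h
  | cons f l ih =>
    exact (pl_cons f l X B).2 fun n =>
      ⟨fun x y _ => (ih n).elim x y, fun y => ⟨0, (ih n).elim _ _⟩⟩

/-- Complete objects only receive zero from objects killed by the Koszul complex. -/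
theorem hom_zero_of_pl (l : List R) (X : CochainComplex A ℤ) (B : DerivedCategory A) (h : Pl l X B)
    (hB : ∀ f ∈ l, ∀ (Y : DerivedCategory A) (n : ℤ), Comp (Preadditive.leftComp (B⟦n⟧) (f • 𝟙 Y))) :
    ∀ n : ℤ, Subsingleton (DerivedCategory.Q.obj X ⟶ B⟦n⟧) := by
  induction l with
  | nil => exact h
  | cons f l ih =>
    refine ih (fun n => subsingleton_of_forall_eq 0 fun x => ?_) (fun g hg => hB g (List.mem_cons_of_mem _ hg))
    let E := Equiv.ofBijective _ ((pl_cons f l X B).1 h n)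
    have hx := (hB f List.mem_cons_self _ n).eq_zero (x := fun i => (E.symm)^[i] x) fun i => by
      show _ = (f • 𝟙 _) ≫ _
      rw [Linear.smul_comp, Category.id_comp, Function.iterate_succ_apply']
      exact (E.apply_symm_apply _).symm
    exact congrFun hx 0

/-- Koszul complexes of objects without maps to `B`. -/
theorem pl_iso {l : List R} {X : CochainComplex A ℤ} {B B' : DerivedCategory A} (e : B ≅ B') (h : Pl l X B) :
    Pl l X B' := fun n =>
  haveI := h n
  ((Iso.refl _).homCongr ((shiftFunctor _ n).mapIso e)).symm.subsingleton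

/-- Two out of three. -/
theorem pl_obj₂ {l : List R} {X : CochainComplex A ℤ} (T : Triangle (DerivedCategory A))
    (hT : T ∈ distTriang (DerivedCategory A)) (h₁ : Pl l X T.obj₁) (h₃ : Pl l X T.obj₃) : Pl l X T.obj₂ :=
  fun n => subsingleton_of_forall_eq 0 fun x => by
    obtain ⟨y, hy⟩ := Triangle.coyoneda_exact₂ _ (Triangle.shift_distinguished T hT n) x ((h₃ n).elim _ _)
    rw [hy, (h₁ n).elim y 0, zero_comp]

theorem pl_obj₃ {l : List R} {X : CochainComplex A ℤ} (T : Triangle (DerivedCategory A))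
    (hT : T ∈ distTriang (DerivedCategory A)) (h₁ : Pl l X T.obj₁) (h₂ : Pl l X T.obj₂) : Pl l X T.obj₃ :=
  pl_obj₂ T.rotate (rot_of_distTriang _ hT) h₂ fun n => by
    haveI := h₁ (1 + n)
    exact ((Iso.refl _).homCongr ((shiftFunctorAdd' (DerivedCategory A) 1 n (1 + n) rfl).app T.obj₁)).symm.subsingleton

end Groth.Agent.H16Derived.DerCompLib.Null
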