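import Groth.Agent.H16Derived.DerComp.Null.Main
import Groth.Agent.H16Derived.DerComp.Push

/-!
# Direct images preserve nullity
-/

set_option autoImplicit false
set_option linter.style.haveILetI false
set_option backward.isDefEq.respectTransparency false

universe u v₁ u₁ r

open CategoryTheory CategoryTheory.Limits Opposite

namespace Groth.Agent.H16Derived.DerCompLib.Null

theorem iso_mapD {A : Type u₁} [Category.{v₁} A] [Abelian A] [HasDerivedCategory A]
    {B : Type u₁} [Category.{v₁} B] [Abelian B] [HasDerivedCategory B] (F : A ⥤ B) [F.Additive]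
    [PreservesFiniteLimits F] [PreservesFiniteColimits F] {R₀ : Type r} {a : KAct R₀ A} {b : KAct R₀ B}
    (h : KIso (a.map F) b) (l : List R₀) :
    Nonempty (F.mapDerivedCategory.obj (DerivedCategory.Q.obj (kos l a).X) ≅
      DerivedCategory.Q.obj (kos l b).X) := by
  obtain ⟨e, -⟩ := (kIso_map_kos F a l).trans (h.kos l)
  exact ⟨F.mapDerivedCategoryFactors.app _ ≪≫ DerivedCategory.Q.mapIso e⟩

theorem smul_single {R : Type r} [CommRing R] {A : Type u₁} [Category.{v₁} A] [Abelian A] [Linear R A]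
    (g : R) (X : A) :
    g • 𝟙 ((HomologicalComplex.single A (ComplexShape.up ℤ) 0).obj X) =
      (HomologicalComplex.single A (ComplexShape.up ℤ) 0).map (g • 𝟙 X) :=
  HomologicalComplex.from_single_hom_ext
    (by simp [HomologicalComplex.single_map_f_self, Linear.smul_comp, Linear.comp_smul])

open H15Site H15Site.ModTensor

attribute [local instance] HasDerivedCategory.standard
attribute [local instance] PullKFlat.additive_pull
attribute [local instance 10000] SiteInst.hasSheafifySite SiteInst.hasWeakSheafifySite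
attribute [local instance] preservesFiniteLimits_restr' preservesFiniteColimits_restr' additive_restr

variable {C : Type u} [SmallCategory C] {J : GrothendieckTopology C} (O : Sheaf J CommRingCat.{u})

theorem θ_comm (W : C) (a b : O.obj.obj (op W)) : θ O W a ≫ θ O W b = θ O W b ≫ θ O W a := by
  rw [← θ_mul, ← θ_mul, mul_comm]

variable {R₀ : Type r}

/-- `j_! O_W` with the multiplications by chosen sections. -/
noncomputable def freeKAct (W : C) (σ : R₀ → O.obj.obj (op W)) : KAct R₀ (ModSite.Mod O) where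
  X := (HomologicalComplex.single (ModSite.Mod O) (ComplexShape.up ℤ) 0).obj (ModSite.freeOn O W)
  act g := (HomologicalComplex.single (ModSite.Mod O) (ComplexShape.up ℤ) 0).map (θ O W (σ g))
  comm a b := by rw [← Functor.map_comp, ← Functor.map_comp, θ_comm]

theorem kIso_freeKAct (W : C) (σ : R₀ → O.obj.obj (op W)) :
    haveI := ModOver.additive_extZero O W
    KIso (((scal (DerComp.GSec (O.over W)) (uCx O W)).comap fun g => DerComp.GSec.ofSect O W (σ g)).map
      (ModSite.extZero O W)) (freeKAct O W σ) := by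
  haveI := ModOver.additive_extZero O W
  let τ := HomologicalComplex.singleMapHomologicalComplex (ModSite.extZero O W) (ComplexShape.up ℤ) 0
  refine ⟨τ.app (ModSite.unit (O.over W)), fun g => ?_⟩
  show ((ModSite.extZero O W).mapHomologicalComplex _).map (DerComp.GSec.ofSect O W (σ g) • 𝟙 (uCx O W)) ≫ _ =
    _ ≫ (HomologicalComplex.single (ModSite.Mod O) (ComplexShape.up ℤ) 0).map (θ O W (σ g))
  rw [smul_single, DerComp.smul_def, Category.comp_id]
  exact τ.hom.naturality _

/-- The Koszul complexes of a free module are K-flat with flat terms. -/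
theorem kflatFlat_kos_freeKAct (W : C) (σ : R₀ → O.obj.obj (op W)) (l : List R₀) :
    PullAdapted.kflatFlat O (kos l (freeKAct O W σ)).X := by
  haveI := ModKFlat.countableAB4 (O := O)
  induction l with
  | nil =>
    have hflat : ∀ i : ℤ, KFlat.IsFlatObj (ModSite.tensorBi O) ((freeKAct O W σ).X.X i) := fun i => by
      rw [ModKFlat.isFlatObj_iff]
      by_cases hi : i = 0
      · subst hi
        exact ModTensor.isFlat_of_iso (HomologicalComplex.singleObjXSelf (ComplexShape.up ℤ) 0 _).symm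
          (ModOver.isFlat_freeOn O W)
      · exact (ModKFlat.isFlatObj_iff _).1
          (KFlat.isFlatObj_of_isZero (F := ModSite.tensorBi O) (HomologicalComplex.isZero_single_obj_X _ _ _ _ hi))
    exact ⟨KFlat.isKFlat_of_singleDegree _ 0
      (fun q hq => HomologicalComplex.isZero_single_obj_X _ _ _ _ hq) (hflat 0), hflat⟩
  | cons g l ih =>
    exact ⟨KFlat.IsKFlat.mappingCone _ ih.1 ih.1, KFlat.isFlatObj_mappingCone_X _ ih.2 ih.2⟩

variable {D : Type u} [SmallCategory D] {K : GrothendieckTopology D} {O_D : Sheaf K CommRingCat.{u}}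
  (f : ModSite.RMor O O_D)

theorem exists_pull_freeOn_iso (Y : D) :
    ∃ i : f.pull.obj (ModSite.freeOn O_D Y) ≅ ModSite.freeOn O (f.fn.obj Y),
      ∀ g : O_D.obj.obj (op Y),
        f.pull.map (θ O_D Y g) ≫ i.hom = i.hom ≫ θ O (f.fn.obj Y) (sharpHom f Y g) := by
  let P := fun g : O_D.obj.obj (op Y) => freeEndoPull f Y g (freeEndoθ O_D Y g)
  let P' := fun g : O_D.obj.obj (op Y) => freeEndoθ O (f.fn.obj Y) (sharpHom f Y g)
  let G := f.pull.obj (ModSite.freeOn O_D Y)
  let G' := ModSite.freeOn O (f.fn.obj Y)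
  let a : G ⟶ G' := ((P 0).e G').symm ((P' 0).e G' (𝟙 G'))
  let b : G' ⟶ G := ((P' 0).e G).symm ((P 0).e G (𝟙 G))
  have ha : ∀ {F : ModSite.Mod O} (x : G' ⟶ F), (P 0).e F (a ≫ x) = (P' 0).e F x := fun {F} x => by
    rw [(P 0).nat, Equiv.apply_symm_apply, ← (P' 0).nat, Category.id_comp]
  have hb : ∀ {F : ModSite.Mod O} (x : G ⟶ F), (P' 0).e F (b ≫ x) = (P 0).e F x := fun {F} x => by
    rw [(P' 0).nat, Equiv.apply_symm_apply, ← (P 0).nat, Category.id_comp]
  refine ⟨⟨a, b, ?_, ?_⟩, fun g => ?_⟩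
  · exact ((P 0).e G).injective ((ha b).trans (((P' 0).e G).apply_symm_apply _))
  · exact ((P' 0).e G').injective ((hb a).trans (((P 0).e G').apply_symm_apply _))
  · apply ((P 0).e G').injective
    show (P g).e G' (f.pull.map (θ O_D Y g) ≫ a) = (P 0).e G' (a ≫ θ O (f.fn.obj Y) (sharpHom f Y g))
    rw [(P g).endo, ha]
    exact (congrArg (smulSect O _) (((P 0).e G').apply_symm_apply _)).trans
      (((P' g).endo (𝟙 G')).symm.trans (congrArg _ (Category.comp_id _)))

theorem kIso_map_single_hom {R₁ : Type r} {A : Type u₁} [Category.{v₁} A] [Abelian A] {B : Type u₁}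
    [Category.{v₁} B] [Abelian B] (F : A ⥤ B) [F.Additive] {u : A} {t : B}
    (φ : R₁ → (u ⟶ u)) (ψ : R₁ → (t ⟶ t)) (h : ∀ a b : R₁,
      (HomologicalComplex.single A (ComplexShape.up ℤ) 0).map (φ a) ≫ (HomologicalComplex.single A (ComplexShape.up ℤ) 0).map (φ b) =
      (HomologicalComplex.single A (ComplexShape.up ℤ) 0).map (φ b) ≫ (HomologicalComplex.single A (ComplexShape.up ℤ) 0).map (φ a))
    (h' : ∀ a b : R₁,
      (HomologicalComplex.single B (ComplexShape.up ℤ) 0).map (ψ a) ≫ (HomologicalComplex.single B (ComplexShape.up ℤ) 0).map (ψ b) =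
      (HomologicalComplex.single B (ComplexShape.up ℤ) 0).map (ψ b) ≫ (HomologicalComplex.single B (ComplexShape.up ℤ) 0).map (ψ a))
    (i : F.obj u ≅ t) (hi : ∀ g, F.map (φ g) ≫ i.hom = i.hom ≫ ψ g) :
    KIso ((⟨_, fun g => (HomologicalComplex.single A (ComplexShape.up ℤ) 0).map (φ g), h⟩ : KAct R₁ A).map F)
      (⟨_, fun g => (HomologicalComplex.single B (ComplexShape.up ℤ) 0).map (ψ g), h'⟩ : KAct R₁ B) := by
  let τ := HomologicalComplex.singleMapHomologicalComplex F (ComplexShape.up ℤ) 0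
  refine ⟨τ.app u ≪≫ (HomologicalComplex.single B (ComplexShape.up ℤ) 0).mapIso i, fun g => ?_⟩
  have h1 := τ.hom.naturality (φ g)
  dsimp [KAct.map] at h1 ⊢
  rw [reassoc_of% h1, Category.assoc, ← Functor.map_comp, hi, Functor.map_comp]

theorem kIso_pull_freeKAct (Y : D) (i : f.pull.obj (ModSite.freeOn O_D Y) ≅ ModSite.freeOn O (f.fn.obj Y))
    (hi : ∀ g : O_D.obj.obj (op Y),
      f.pull.map (θ O_D Y g) ≫ i.hom = i.hom ≫ θ O (f.fn.obj Y) (sharpHom f Y g)) :
    KIso ((freeKAct O_D Y fun g => g).map f.pull) (freeKAct O (f.fn.obj Y) (sharpHom f Y)) :=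
  kIso_map_single_hom f.pull (fun g => θ O_D Y g) (fun g => θ O (f.fn.obj Y) (sharpHom f Y g)) _ _ i hi

/-- Direct images of null objects are null. -/
theorem nullC_push [SiteCmp.HasRpushD f] {I : DerComp.IdealSh O_D} {I' : DerComp.IdealSh O}
    (hI' : DerComp.RIsIdealExt f I I') {X : DerivedCategory (ModSite.Mod O)} (hX : NullC O I' X) :
    NullC O_D I ((SiteCmp.RpushD f).obj X) := by
  intro Y m hm n
  haveI := H10Coh.isGrothendieckAbelian_sheafOfModules (ModSite.ringSh O)
  haveI := ModOver.additive_extZero O_D Y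
  haveI := ModOver.preservesFiniteLimits_extZero O_D Y
  haveI := ModOver.preservesFiniteColimits_extZero O_D Y
  haveI := ModOver.additive_extZero O (f.fn.obj Y)
  haveI := ModOver.preservesFiniteLimits_extZero O (f.fn.obj Y)
  haveI := ModOver.preservesFiniteColimits_extZero O (f.fn.obj Y)
  obtain ⟨L, _, _, ⟨η⟩, ⟨adj⟩⟩ := exists_leftAdjoint_natural (G := f.pull) (F := f.push) f.adj
    (PullAdapted.pullAdapted f)
  let ρ₁ : O_D.obj.obj (op Y) → DerComp.GSec (O_D.over Y) := DerComp.GSec.ofSect O_D Y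
  let ρ₂ : O_D.obj.obj (op Y) → DerComp.GSec (O.over (f.fn.obj Y)) :=
    fun g => DerComp.GSec.ofSect O (f.fn.obj Y) (sharpHom f Y g)
  let a₁ := (scal (DerComp.GSec (O_D.over Y)) (uCx O_D Y)).comap ρ₁
  let a₂ := (scal (DerComp.GSec (O.over (f.fn.obj Y))) (uCx O (f.fn.obj Y))).comap ρ₂
  have h₁ : (kos m a₁).X = kX (DerComp.GSec (O_D.over Y)) (m.map ρ₁) (uCx O_D Y) := by
    rw [kos_comap]; rfl
  have h₂ : (kos m a₂).X = kX (DerComp.GSec (O.over (f.fn.obj Y)))
      ((m.map (sharpHom f Y)).map (DerComp.GSec.ofSect O (f.fn.obj Y))) (uCx O (f.fn.obj Y)) := by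
    rw [kos_comap, List.map_map]; rfl
  show Subsingleton (DerivedCategory.Q.obj (kX (DerComp.GSec (O_D.over Y)) (m.map ρ₁) (uCx O_D Y)) ⟶ _)
  rw [← h₁]
  refine subsingleton_of_adj_shift (ExactAdj.mapDerivedCategoryAdj (ModSite.extZeroAdj O_D Y)) _ _ n ?_
  refine subsingleton_of_adj_shift adj _ _ n ?_
  obtain ⟨e₁⟩ := iso_mapD (ModSite.extZero O_D Y) (a := a₁) (kIso_freeKAct O_D Y fun g => g) m
  obtain ⟨i, hi⟩ := exists_pull_freeOn_iso O f Y
  have hp := kIso_pull_freeKAct O f Y i hi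
  obtain ⟨e₂, -⟩ := (kIso_map_kos f.pull _ m).trans (hp.kos m)
  obtain ⟨e₃⟩ := iso_mapD (ModSite.extZero O (f.fn.obj Y)) (a := a₂)
    (kIso_freeKAct O (f.fn.obj Y) (sharpHom f Y)) m
  refine subsingleton_of_iso_left (L.mapIso e₁ ≪≫
    η.app ⟨(kos m (freeKAct O_D Y fun g => g)).X, kflatFlat_kos_freeKAct O_D Y _ m⟩ ≪≫
    DerivedCategory.Q.mapIso e₂ ≪≫ e₃.symm).symm ?_
  refine subsingleton_obj_of_adj_shift (ExactAdj.mapDerivedCategoryAdj (ModSite.extZeroAdj O (f.fn.obj Y))) _ _ n ?_
  rw [h₂]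
  exact hX (f.fn.obj Y) _ (gen_push f I I' hI' m hm) n

/-- Direct images commute with completion. -/
theorem isIso_push_comparison [SiteCmp.HasRpushD f] (I : DerComp.IdealSh O_D) (hI : I.IsFiniteType)
    (I' : DerComp.IdealSh O) (hI' : DerComp.RIsIdealExt f I I') [DerComp.HasDerCompletion O_D I]
    [DerComp.HasDerCompletion O I'] (M : DerivedCategory (ModSite.Mod O))
    (h : DerComp.IsDerComp O_D I ((SiteCmp.RpushD f).obj ((DerComp.derCompletion O I').obj M).obj)) :
    IsIso (((DerComp.derCompletionAdj O_D I).homEquiv ((SiteCmp.RpushD f).obj M)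
      ⟨(SiteCmp.RpushD f).obj ((DerComp.derCompletion O I').obj M).obj, h⟩).symm
        ((SiteCmp.RpushD f).map (DerComp.toDerCompletion I' M))) := by
  haveI := H10Coh.isGrothendieckAbelian_sheafOfModules (ModSite.ringSh O)
  obtain ⟨L, _, _, -, ⟨adj⟩⟩ := exists_leftAdjoint_natural (G := f.pull) (F := f.push) f.adj
    (PullAdapted.pullAdapted f)
  obtain ⟨E, i, d, hT, hE⟩ := exists_LO_triangle (I := I') M
  obtain ⟨i', d', hT'⟩ := exists_right_triangle adj hT
  exact isIso_desc_of_LO h hT' (LO_of_nullC hI (nullC_push O f hI' (nullC_of_LO hE)))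

end Groth.Agent.H16Derived.DerCompLib.Null
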