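import Groth.Agent.H16Derived.DerComp.Null.TotCone
import Groth.Agent.H16Derived.DerComp.Null.Push
import Groth.Agent.H16Derived.DerComp.Flat.Main
import Groth.Agent.H16Derived.DerComp.RHomComplete

/-!
# `RHom` preserves nullity
-/

set_option autoImplicit false
set_option linter.style.haveILetI false
set_option backward.isDefEq.respectTransparency false

universe u v₁ u₁ w₁

open CategoryTheory CategoryTheory.Limits CategoryTheory.Pretriangulated Opposite

namespace Groth.Agent.H16Derived.DerCompLib.Null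

section Generic

variable {A : Type u₁} [Category.{v₁} A] [Abelian A] [HasDerivedCategory.{w₁} A]

theorem bij_post_of_cone {G T E : DerivedCategory A} {t : G ⟶ T} {i : T ⟶ E} {d : E ⟶ G⟦(1 : ℤ)⟧}
    (hT : Triangle.mk t i d ∈ distTriang (DerivedCategory A)) {Y : DerivedCategory A}
    (h : ∀ m : ℤ, Subsingleton (Y ⟶ E⟦m⟧)) : Function.Bijective fun y : Y ⟶ G => y ≫ t := by
  constructor
  · intro x y hxy
    obtain ⟨z, hz⟩ := Triangle.coyoneda_exact₂ _ (inv_rot_of_distTriang _ hT) (x - y) (by
      show (x - y) ≫ t = 0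
      rw [Preadditive.sub_comp, sub_eq_zero]
      exact hxy)
    rw [← sub_eq_zero, hz, (h (-1)).elim z 0, zero_comp]
  · intro y
    haveI := subsingleton_of_zero_shift (h 0)
    obtain ⟨z, hz⟩ := Triangle.coyoneda_exact₂ _ hT y (Subsingleton.elim (α := Y ⟶ E) _ _)
    exact ⟨z, hz.symm⟩

/-- A right adjoint sends a triangle to one with cone killed by `X`. -/
theorem subsingleton_cone_of_adj {Φ R : DerivedCategory A ⥤ DerivedCategory A} (adj : Φ ⊣ R)
    {G T E : DerivedCategory A} {t : G ⟶ T} {i : T ⟶ E} {d : E ⟶ G⟦(1 : ℤ)⟧}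
    (hT : Triangle.mk t i d ∈ distTriang (DerivedCategory A)) {E' : DerivedCategory A} {i' : R.obj T ⟶ E'}
    {d' : E' ⟶ (R.obj G)⟦(1 : ℤ)⟧} (hT' : Triangle.mk (R.map t) i' d' ∈ distTriang (DerivedCategory A))
    (X : DerivedCategory A) (h : ∀ j m : ℤ, Subsingleton (Φ.obj (X⟦j⟧) ⟶ E⟦m⟧)) (n : ℤ) :
    Subsingleton (X ⟶ E'⟦n⟧) := by
  rw [subsingleton_shift_left_iff]
  refine Flat.subsingleton_cone hT' (fun k => (Flat.post_shift (R.map t) X k).2 ?_) (-n)
  have he : (fun y : X⟦-k⟧ ⟶ R.obj G => y ≫ R.map t) =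
      adj.homEquiv _ _ ∘ (fun z : Φ.obj (X⟦-k⟧) ⟶ G => z ≫ t) ∘ (adj.homEquiv _ _).symm := funext fun y => by
    rw [Function.comp_apply, Function.comp_apply, adj.homEquiv_naturality_right, Equiv.apply_symm_apply]
  show Function.Bijective fun y : X⟦-k⟧ ⟶ R.obj G => y ≫ R.map t
  rw [he]
  exact (Equiv.bijective _).comp ((bij_post_of_cone hT (h (-k))).comp (Equiv.bijective _))

theorem orth_shift {P : ObjectProperty (DerivedCategory A)} (_hP : ∀ M, P M → ∀ k : ℤ, P (M⟦k⟧))
    {X : DerivedCategory A} (hX : Orth P X) (m : ℤ) : Orth P (X⟦m⟧) := fun M hM n => by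
  have h := (subsingleton_shift_left_iff X (M⟦n⟧) (-m)).1 (subsingleton_shift_congr rfl (hX M hM (n + -m)))
  rwa [neg_neg] at h

end Generic

open H15Site H15Site.ModTensor

attribute [local instance] HasDerivedCategory.standard
attribute [local instance 10000] SiteInst.hasSheafifySite SiteInst.hasWeakSheafifySite
attribute [local instance] preservesFiniteLimits_restr' preservesFiniteColimits_restr' additive_restr

variable {C : Type u} [SmallCategory C] {J : GrothendieckTopology C} {O : Sheaf J CommRingCat.{u}}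
  {I : DerComp.IdealSh O}

/-- Koszul complexes of any complex see nothing in an orthogonal object. -/
theorem pl_of_LO {X : DerivedCategory (ModSite.Mod O)} (hX : LO O I X) (W : C)
    (l : List (O.obj.obj (op W))) (hl : Gen l I) (X' : CochainComplex (ModSite.Mod (O.over W)) ℤ) :
    Pl (l.map (DerComp.GSec.ofSect O W)) X' ((ModSite.restr O W).mapDerivedCategory.obj X) := by
  haveI := isLeftAdjoint_restr O W
  haveI := H10Coh.isGrothendieckAbelian_sheafOfModules (ModSite.ringSh (O.over W))
  let q := (ModSite.restr O W).rightAdjoint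
  haveI : q.Additive := (Adjunction.ofIsLeftAdjoint (ModSite.restr O W)).right_adjoint_additive
  haveI := ExactRightAdj.hasPointwise (B := ModSite.Mod (O.over W)) (A := ModSite.Mod O) (F := q)
  let adjR := ExactRightAdj.adjD (Adjunction.ofIsLeftAdjoint (ModSite.restr O W))
  let Φ := (ModSite.restr O W).mapDerivedCategory
  let Y := DerivedCategory.Q.objPreimage (Φ.obj X)
  let eY : DerivedCategory.Q.obj Y ≅ Φ.obj X := DerivedCategory.Q.objObjPreimageIso _
  let ls := l.reverse.map (DerComp.GSec.ofSect O W)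
  refine pl_iso eY (pl_of_isZero_right _ _ _ ?_)
  rw [← List.map_reverse]
  refine isZero_kX_of_orth (P := DerComp.IsDerComp O I) hX adjR ls Y eY fun n => ?_
  intro U f hf k
  refine subsingleton_of_adj_shift adjR _ _ k (subsingleton_shift_congr rfl ?_)
  refine subsingleton_of_iso_left (((ModSite.restr O W).mapDerivedCategorySingleFunctor 0).app
    ((ModSite.extZero O U).obj (DerComp.awayOver O U f)) ≪≫
      (DerivedCategory.singleFunctorIsoCompQ (ModSite.Mod (O.over W)) 0).app
        ((ModSite.restr O W).obj ((ModSite.extZero O U).obj (DerComp.awayOver O U f)))).symm ?_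
  refine subsingleton_to_kX_of_isZero ls _ _ ?_ _
  rw [← List.map_reverse, List.reverse_reverse]
  exact isZero_kU_test hl hf

variable (O)

/-- The tensor product of a free module with `P` is `j_!` of the restriction, with multiplications. -/
theorem kIso_freeKAct_tot (W : C) (P : CochainComplex (ModSite.Mod O) ℤ) :
    haveI := ModKFlat.countableAB4 (O := O)
    haveI := ModOver.additive_extZero O W
    KIso ((freeKAct O W fun g => g).tot (ModSite.tensorBi O) P)
      (((scal (DerComp.GSec (O.over W)) (((ModSite.restr O W).mapHomologicalComplex (ComplexShape.up ℤ)).obj P)).comap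
        (DerComp.GSec.ofSect O W)).map (ModSite.extZero O W)) := by
  haveI := ModKFlat.countableAB4 (O := O)
  haveI := ModOver.additive_extZero O W
  let G := ModSite.freeOn O W
  let J₁ : ((ModSite.tensorBi O).obj G).mapHomologicalComplex (ComplexShape.up ℤ) ≅
      (ModSite.restr O W ⋙ ModSite.extZero O W).mapHomologicalComplex (ComplexShape.up ℤ) :=
    NatIso.mapHomologicalComplex (ModOver.freeOnTensor O W) (ComplexShape.up ℤ)
  let ε := singleLeftApp (ModSite.tensorBi O) P G
  refine ⟨ε.symm ≪≫ J₁.app P, fun g => ?_⟩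
  let s := DerComp.GSec.ofSect O W g
  let φ : G ⟶ G := θ O W g
  let P' := ((ModSite.restr O W).mapHomologicalComplex (ComplexShape.up ℤ)).obj P
  have h₁ : (totL (ModSite.tensorBi O) P).map ((HomologicalComplex.single (ModSite.Mod O) (ComplexShape.up ℤ) 0).map φ) ≫ ε.inv =
      ε.inv ≫ (NatTrans.mapHomologicalComplex ((ModSite.tensorBi O).map φ) (ComplexShape.up ℤ)).app P :=
    (Iso.comp_inv_eq ε).2 ((((Category.assoc _ _ _).trans
      ((congrArg (ε.inv ≫ ·) (singleLeftApp_natural (ModSite.tensorBi O) P φ)).trans (Iso.inv_hom_id_assoc ε _)))).symm)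
  have h₂ : (NatTrans.mapHomologicalComplex ((ModSite.tensorBi O).map φ) (ComplexShape.up ℤ)).app P ≫
      J₁.hom.app P = J₁.hom.app P ≫
        ((ModSite.extZero O W).mapHomologicalComplex (ComplexShape.up ℤ)).map (s • 𝟙 P') := by
    refine HomologicalComplex.hom_ext _ _ fun q => ?_
    show ((ModSite.tensorBi O).map φ).app (P.X q) ≫ (ModOver.freeOnTensor O W).hom.app (P.X q) =
      (ModOver.freeOnTensor O W).hom.app (P.X q) ≫ (ModSite.extZero O W).map ((s • 𝟙 P').f q)
    rw [show (s • 𝟙 P').f q = DerComp.smulEnd s ((ModSite.restr O W).obj (P.X q)) from smul_id_eq (O.over W) s _]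
    exact smul_freeOnTensor O W s (P.X q)
  exact ((Category.assoc _ _ _).symm.trans ((congrArg (· ≫ J₁.hom.app P) h₁).trans
      ((Category.assoc _ _ _).trans ((congrArg (_ ≫ ·) h₂).trans (Category.assoc _ _ _).symm))))

theorem flip_kos_isKFlat (W : C) : ∀ m : List (O.obj.obj (op W)),
    KFlat.IsKFlat (ModSite.tensorBi O).flip (kos m (freeKAct O W fun g => g)).X
  | [] => flip_single_isKFlat O _ (ModOver.isFlat_freeOn O W)
  | _ :: m =>
    haveI := ModKFlat.countableAB4 (O := O)
    KFlat.IsKFlat.mappingCone _ (flip_kos_isKFlat W m) (flip_kos_isKFlat W m)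

/-- The derived tensor product of a Koszul complex with `P` sees nothing in an orthogonal object. -/
theorem subsingleton_tensor_kos (P : CochainComplex (ModSite.Mod O) ℤ) [ModSite.HasLTensorCx P]
    {E : DerivedCategory (ModSite.Mod O)} (hE : LO O I E) (W : C) (m : List (O.obj.obj (op W)))
    (hm : Gen m I) (j k : ℤ) :
    Subsingleton ((ModSite.LTensorCx P).obj ((DerivedCategory.Q.obj (kos m (freeKAct O W fun g => g)).X)⟦j⟧) ⟶ E⟦k⟧) := by
  haveI := ModKFlat.countableAB4 (O := O)
  haveI := ModOver.additive_extZero O W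
  haveI := ModOver.preservesFiniteLimits_extZero O W
  haveI := ModOver.preservesFiniteColimits_extZero O W
  let A := ModSite.Mod O
  let K := (kos m (freeKAct O W fun g => g)).X
  let Ψ := totL (ModSite.tensorBi O) P
  let α : DerivedCategory.Q ⋙ ModSite.LTensorCx P ⟶ Ψ ⋙ DerivedCategory.Q :=
    (ModSite.tensorCxQ P).totalLeftDerivedCounit DerivedCategory.Q
      (HomologicalComplex.quasiIso A (ComplexShape.up ℤ))
  haveI : IsIso (α.app (K⟦j⟧)) := isIso_LTensorCx_counit O P _ ((flip_kos_isKFlat O W m).shift j)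
  let P' := ((ModSite.restr O W).mapHomologicalComplex (ComplexShape.up ℤ)).obj P
  let ρ := DerComp.GSec.ofSect O W
  let a := (scal (DerComp.GSec (O.over W)) P').comap ρ
  obtain ⟨e₁, -⟩ := (kIso_tot_kos (ModSite.tensorBi O) P (freeKAct O W fun g => g) m).trans
    ((kIso_freeKAct_tot O W P).kos m)
  obtain ⟨e₂⟩ := iso_mapD (ModSite.extZero O W) (a := a) (KIso.refl _) m
  let e : (ModSite.LTensorCx P).obj ((DerivedCategory.Q.obj K)⟦j⟧) ≅
      ((ModSite.extZero O W).mapDerivedCategory.obj (DerivedCategory.Q.obj (kos m a).X))⟦j⟧ :=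
    (ModSite.LTensorCx P).mapIso ((DerivedCategory.Q.commShiftIso j).app K).symm ≪≫ asIso (α.app (K⟦j⟧)) ≪≫
      DerivedCategory.Q.mapIso ((Ψ.commShiftIso j).app K) ≪≫ (DerivedCategory.Q.commShiftIso j).app (Ψ.obj K) ≪≫
      (CategoryTheory.shiftFunctor _ j).mapIso (DerivedCategory.Q.mapIso e₁ ≪≫ e₂.symm)
  refine subsingleton_of_iso_left e.symm ?_
  refine subsingleton_shift_obj_of_adj (ExactAdj.mapDerivedCategoryAdj (ModSite.extZeroAdj O W)) _ _ j fun n => ?_
  rw [kos_comap]
  exact pl_of_LO (orth_shift (isDerComp_shift O I) hE k) W m hm P' n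

variable {O}

/-- `RHom` of the completion computes the completion of `RHom`. -/
theorem isIso_rhom_comparison (hI : I.IsFiniteType) [DerComp.HasDerCompletion O I]
    (P : CochainComplex (ModSite.Mod O) ℤ) [ModSite.HasLTensorCx P] [DerComp.HasRHom P]
    (G : DerivedCategory (ModSite.Mod O))
    (h : DerComp.IsDerComp O I ((DerComp.RHom P).obj ((DerComp.derCompletion O I).obj G).obj)) :
    IsIso (((DerComp.derCompletionAdj O I).homEquiv ((DerComp.RHom P).obj G)
      ⟨(DerComp.RHom P).obj ((DerComp.derCompletion O I).obj G).obj, h⟩).symm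
        ((DerComp.RHom P).map (DerComp.toDerCompletion I G))) := by
  obtain ⟨E, i, d, hT, hE⟩ := exists_LO_triangle (I := I) G
  obtain ⟨E', i', d', hT'⟩ := distinguished_cocone_triangle ((DerComp.RHom P).map (DerComp.toDerCompletion I G))
  refine isIso_desc_of_LO h hT' (LO_of_nullC hI fun W m hm n => ?_)
  haveI := ModOver.additive_extZero O W
  haveI := ModOver.preservesFiniteLimits_extZero O W
  haveI := ModOver.preservesFiniteColimits_extZero O W
  let a₁ := (scal (DerComp.GSec (O.over W)) (uCx O W)).comap (DerComp.GSec.ofSect O W)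
  have h₁ : (kos m a₁).X = kX (DerComp.GSec (O.over W)) (m.map (DerComp.GSec.ofSect O W)) (uCx O W) := by
    rw [kos_comap]; rfl
  rw [← h₁]
  refine subsingleton_of_adj_shift (ExactAdj.mapDerivedCategoryAdj (ModSite.extZeroAdj O W)) _ _ n ?_
  obtain ⟨e₁⟩ := iso_mapD (ModSite.extZero O W) (a := a₁) (kIso_freeKAct O W fun g => g) m
  exact subsingleton_of_iso_left e₁.symm (subsingleton_cone_of_adj (DerComp.RHomAdj P) hT hT' _
    (fun j k => subsingleton_tensor_kos O P hE W m hm j k) n)

end Groth.Agent.H16Derived.DerCompLib.Null
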