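import Groth.Agent.H16Derived.DerComp.Null.Kos
import Groth.Agent.H16Derived.KFlat.Basic
import Mathlib.Algebra.Homology.BifunctorShift

/-!
# Totalisations commute with mapping cones in the first variable
-/

set_option autoImplicit false
set_option linter.style.haveILetI false
set_option backward.isDefEq.respectTransparency false

universe r v v' v'' u u' u''

open CategoryTheory CategoryTheory.Limits CochainComplex CochainComplex.HomComplex

namespace Groth.Agent.H16Derived.DerCompLib.Null

variable {A : Type u} [Category.{v} A] [Abelian A] {B : Type u'} [Category.{v'} B] [Abelian B]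
  {C : Type u''} [Category.{v''} C] [Abelian C] [HasCountableCoproducts C]
  (F : A ⥤ B ⥤ C) [F.Additive] [∀ a, (F.obj a).Additive] (L : CochainComplex B ℤ)

/-- `Tot F(-, L)`. -/
noncomputable abbrev totL : CochainComplex A ℤ ⥤ CochainComplex C ℤ :=
  F.map₂CochainComplex.flip.obj L

/-- The inclusion of a summand. -/
noncomputable abbrev ιL (K : CochainComplex A ℤ) (p q n : ℤ) (h : p + q = n) :
    (F.obj (K.X p)).obj (L.X q) ⟶ ((totL F L).obj K).X n :=
  HomologicalComplex.ιMapBifunctor K L F (ComplexShape.up ℤ) p q n h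

@[reassoc]
theorem ι_totL_map {K K' : CochainComplex A ℤ} (φ : K ⟶ K') (p q n : ℤ) (h : p + q = n) :
    ιL F L K p q n h ≫ ((totL F L).map φ).f n = (F.map (φ.f p)).app (L.X q) ≫ ιL F L K' p q n h := by
  refine (HomologicalComplex.ι_mapBifunctorMap φ (𝟙 L) F (ComplexShape.up ℤ) p q n h).trans ?_
  exact congrArg (_ ≫ ·) ((congrArg (· ≫ _) ((F.obj (K'.X p)).map_id (L.X q))).trans (Category.id_comp _))

theorem ι_totL_d {K : CochainComplex A ℤ} (p p' q n m : ℤ) (hp : p + 1 = p') (h : p + q = n) (hnm : n + 1 = m) :
    ιL F L K p q n h ≫ ((totL F L).obj K).d n m =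
      (F.map (K.d p p')).app (L.X q) ≫ ιL F L K p' q m (by omega) +
      p.negOnePow • ((F.obj (K.X p)).map (L.d q (q + 1)) ≫ ιL F L K p (q + 1) m (by omega)) := by
  subst hp
  show _ ≫ (HomologicalComplex.mapBifunctor K L F (ComplexShape.up ℤ)).d n m = _
  rw [HomologicalComplex.mapBifunctor.d_eq, Preadditive.comp_add,
    HomologicalComplex.mapBifunctor.ι_D₁, HomologicalComplex.mapBifunctor.ι_D₂,
    HomologicalComplex.mapBifunctor.d₁_eq _ _ _ _ (show (ComplexShape.up ℤ).Rel p (p + 1) from rfl) _ _
      (show (p + 1) + q = m by omega),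
    HomologicalComplex.mapBifunctor.d₂_eq _ _ _ _ _ (show (ComplexShape.up ℤ).Rel q (q + 1) from rfl) _
      (show p + (q + 1) = m by omega)]
  exact congrArg₂ (· + ·) (one_smul ℤˣ _) rfl

variable {K K' : CochainComplex A ℤ} (φ : K ⟶ K')

/-- The homotopy component of the comparison. -/
noncomputable def totConeCochain : Cochain ((totL F L).obj K) ((totL F L).obj (mappingCone φ)) (-1) :=
  Cochain.mk fun n m hnm => HomologicalComplex.mapBifunctorDesc fun p q (h : p + q = n) =>
    (F.map ((mappingCone.inl φ).v p (p - 1) (by omega))).app (L.X q) ≫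
      ιL F L (mappingCone φ) (p - 1) q m (by omega)

@[reassoc]
theorem ι_totConeCochain (p q n m : ℤ) (h : p + q = n) (hnm : n + (-1) = m) (p' : ℤ) (hp : p + (-1) = p') :
    ιL F L K p q n h ≫ (totConeCochain F L φ).v n m hnm =
      (F.map ((mappingCone.inl φ).v p p' hp)).app (L.X q) ≫ ιL F L (mappingCone φ) p' q m (by omega) := by
  obtain rfl : p' = p - 1 := by omega
  simp only [totConeCochain, Cochain.mk_v]
  exact HomologicalComplex.ι_mapBifunctorDesc _ _ _ _

theorem δ_totConeCochain :
    δ (-1) 0 (totConeCochain F L φ) =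
      Cochain.ofHom ((totL F L).map φ ≫ (totL F L).map (mappingCone.inr φ)) := by
  refine Cochain.ext₀ _ _ fun n => ?_
  rw [δ_v (-1) 0 (neg_add_cancel 1) _ n n (add_zero n) (n - 1) (n + 1) rfl rfl, Cochain.ofHom_v]
  refine HomologicalComplex.mapBifunctor.hom_ext fun p q (h : p + q = n) => ?_
  show ιL F L K p q n h ≫ _ = ιL F L K p q n h ≫ _
  rw [Preadditive.comp_add, Int.negOnePow_zero, one_smul, ι_totConeCochain_assoc F L φ p q n (n - 1) h (by omega) (p - 1) (by omega),
    ι_totL_d F L (p - 1) p q (n - 1) n (sub_add_cancel p 1) (by omega) (sub_add_cancel n 1),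
    ← Category.assoc, ι_totL_d F L p (p + 1) q n (n + 1) rfl h rfl, Preadditive.add_comp,
    Linear.units_smul_comp, Category.assoc, Category.assoc,
    ι_totConeCochain F L φ (p + 1) q (n + 1) n (by omega) (by omega) p (by omega),
    ι_totConeCochain F L φ p (q + 1) (n + 1) n (by omega) (by omega) (p - 1) (by omega)]
  rw [Preadditive.comp_add, Linear.comp_units_smul]
  have hd := δ_v (-1) 0 (neg_add_cancel 1) (mappingCone.inl φ) p p (add_zero p) (p - 1) (p + 1) rfl rfl
  rw [mappingCone.δ_inl, Cochain.ofHom_v, HomologicalComplex.comp_f, Int.negOnePow_zero, one_smul] at hd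
  rw [HomologicalComplex.comp_f, ι_totL_map_assoc F L φ p q n h, ι_totL_map F L (mappingCone.inr φ) p q n h]
  rw [show (p - 1).negOnePow = -p.negOnePow by rw [Int.negOnePow_sub, Int.negOnePow_one, mul_neg, mul_one]]
  rw [NatTrans.naturality_assoc]
  simp only [← Category.assoc, ← NatTrans.comp_app, ← Functor.map_comp]
  rw [hd, Functor.map_add, NatTrans.app_add, Preadditive.add_comp]
  simp only [Units.neg_smul]
  abel

/-- The comparison. -/
noncomputable def totCone : mappingCone ((totL F L).map φ) ⟶ (totL F L).obj (mappingCone φ) :=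
  mappingCone.desc ((totL F L).map φ) (totConeCochain F L φ) ((totL F L).map (mappingCone.inr φ))
    (δ_totConeCochain F L φ)

/-- The inverse in each degree. -/
noncomputable def totConeInv (n : ℤ) :
    ((totL F L).obj (mappingCone φ)).X n ⟶ (mappingCone ((totL F L).map φ)).X n :=
  HomologicalComplex.mapBifunctorDesc fun p q (h : p + q = n) =>
    (F.map ((mappingCone.fst φ).1.v p (p + 1) rfl)).app (L.X q) ≫ ιL F L K (p + 1) q (n + 1) (by omega) ≫
        (mappingCone.inl ((totL F L).map φ)).v (n + 1) n (by omega) +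
      (F.map ((mappingCone.snd φ).v p p (add_zero p))).app (L.X q) ≫ ιL F L K' p q n h ≫
        (mappingCone.inr ((totL F L).map φ)).f n

@[reassoc]
theorem ι_totConeInv (p q n : ℤ) (h : p + q = n) :
    ιL F L (mappingCone φ) p q n h ≫ totConeInv F L φ n =
    (F.map ((mappingCone.fst φ).1.v p (p + 1) rfl)).app (L.X q) ≫ ιL F L K (p + 1) q (n + 1) (by omega) ≫
        (mappingCone.inl ((totL F L).map φ)).v (n + 1) n (by omega) +
      (F.map ((mappingCone.snd φ).v p p (add_zero p))).app (L.X q) ≫ ιL F L K' p q n h ≫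
        (mappingCone.inr ((totL F L).map φ)).f n :=
  HomologicalComplex.ι_mapBifunctorDesc _ _ _ _

theorem isIso_totCone : IsIso (totCone F L φ) := by
  have : ∀ n, IsIso ((totCone F L φ).f n) := fun n => by
    refine ⟨totConeInv F L φ n, ?_, ?_⟩
    · refine (mappingCone.ext_from_iff ((totL F L).map φ) (n + 1) n rfl _ _).2 ⟨?_, ?_⟩
      · rw [Category.comp_id, totCone, ← Category.assoc, mappingCone.inl_v_desc_f]
        refine HomologicalComplex.mapBifunctor.hom_ext fun p q (h : p + q = n + 1) => ?_
        obtain ⟨j, rfl⟩ : ∃ j, p = j + 1 := ⟨p - 1, by omega⟩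
        show ιL F L K (j + 1) q (n + 1) h ≫ _ = ιL F L K (j + 1) q (n + 1) h ≫ _
        rw [ι_totConeCochain_assoc F L φ (j + 1) q (n + 1) n h (by omega) j (by omega), ι_totConeInv,
          Preadditive.comp_add]
        simp only [← Category.assoc, ← NatTrans.comp_app, ← Functor.map_comp]
        simp
      · rw [Category.comp_id, totCone, ← Category.assoc, mappingCone.inr_f_desc_f]
        refine HomologicalComplex.mapBifunctor.hom_ext fun p q (h : p + q = n) => ?_
        show ιL F L K' p q n h ≫ _ = ιL F L K' p q n h ≫ _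
        rw [ι_totL_map_assoc, ι_totConeInv, Preadditive.comp_add]
        simp only [← Category.assoc, ← NatTrans.comp_app, ← Functor.map_comp]
        simp
    · refine HomologicalComplex.mapBifunctor.hom_ext fun p q (h : p + q = n) => ?_
      show ιL F L (mappingCone φ) p q n h ≫ _ = ιL F L (mappingCone φ) p q n h ≫ _
      rw [Category.comp_id, ι_totConeInv_assoc, Preadditive.add_comp]
      simp only [Category.assoc, totCone, mappingCone.inl_v_desc_f, mappingCone.inr_f_desc_f]
      rw [ι_totConeCochain F L φ (p + 1) q (n + 1) n (by omega) (by omega) p (by omega),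
        ι_totL_map F L (mappingCone.inr φ) p q n h]
      simp only [← Category.assoc, ← NatTrans.comp_app, ← Functor.map_comp]
      rw [← Preadditive.add_comp, ← NatTrans.app_add, ← Functor.map_add, mappingCone.id_X,
        CategoryTheory.Functor.map_id, NatTrans.id_app]
      exact Category.id_comp _
  exact HomologicalComplex.Hom.isIso_of_components _

theorem totCone_naturality {M M' : CochainComplex A ℤ} (ψ : M ⟶ M') (a : K ⟶ M) (b : K' ⟶ M')
    (w : φ ≫ b = a ≫ ψ) (w' : (totL F L).map φ ≫ (totL F L).map b = (totL F L).map a ≫ (totL F L).map ψ) :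
    mappingCone.map _ _ ((totL F L).map a) ((totL F L).map b) w' ≫ totCone F L ψ =
      totCone F L φ ≫ (totL F L).map (mappingCone.map φ ψ a b w) := by
  refine HomologicalComplex.hom_ext _ _ fun n => ?_
  rw [mappingCone.ext_from_iff _ (n + 1) n rfl]
  refine ⟨?_, ?_⟩
  · refine HomologicalComplex.mapBifunctor.hom_ext fun p q (h : p + q = n + 1) => ?_
    show ιL F L K p q (n + 1) h ≫ _ = ιL F L K p q (n + 1) h ≫ _
    simp only [HomologicalComplex.comp_f, totCone, mappingCone.inl_v_desc_f_assoc]
    rw [ι_totConeCochain_assoc F L φ p q (n + 1) n h (by omega) (p - 1) (by omega), ι_totL_map]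
    simp only [← Category.assoc, ← NatTrans.comp_app, ← Functor.map_comp]
    simp [mappingCone.map, ι_totConeCochain F L ψ p q (n + 1) n h (by omega) (p - 1) (by omega)]
  · simp only [HomologicalComplex.comp_f, totCone, mappingCone.inr_f_desc_f_assoc]
    simp only [← HomologicalComplex.comp_f, ← Functor.map_comp]
    simp [mappingCone.map]

section KAct

variable {R : Type r}

/-- An additive functor on complexes applied to actions. -/
noncomputable def KAct.tot (a : KAct R A) : KAct R C where
  X := (totL F L).obj a.X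
  act g := (totL F L).map (a.act g)
  comm g h := by rw [← Functor.map_comp, ← Functor.map_comp, a.comm g h]

theorem kIso_tot_kos (a : KAct R A) : ∀ l : List R, KIso ((kos l a).tot F L) (kos l (a.tot F L))
  | [] => KIso.refl _
  | f :: l => by
    refine KIso.trans (KIso.symm ?_) ((kIso_tot_kos a l).cone f)
    let b := kos l a
    haveI := isIso_totCone F L (b.act f)
    refine ⟨asIso (totCone F L (b.act f)), fun g => ?_⟩
    exact totCone_naturality F L (b.act f) (b.act f) (b.act g) (b.act g) (b.comm f g) ((b.tot F L).comm f g)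

end KAct

end Groth.Agent.H16Derived.DerCompLib.Null
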